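import Cfsg.Agent.Lib.Solvable.TwoLengthExp.Tops
import Cfsg.Agent.Lib.OddOrder.Final.Main

/-!
# The two-length is at most the exponent
-/

set_option autoImplicit false

namespace CfsgLib.Solvable.TwoLengthExp

open Subgroup CfsgLib CfsgLib.Solvable.FPFOperators
open scoped commutatorElement

universe u

/-- A two-soluble finite group is soluble. -/
theorem isSolvable_of_isPSolvable_two {G : Type u} [Group G] [Finite G]
    (hG : Cfsg.IsPSolvable 2 G) : Group.IsSolvable G := by
  obtain ⟨n, S, h0, hl, hm, hn, hfac⟩ := hG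
  haveI : Fact (Nat.Prime 2) := ⟨Nat.prime_two⟩
  have key : ∀ i : Fin (n + 1), Group.IsSolvable (S i) := by
    intro i
    induction i using Fin.induction with
    | zero =>
      rw [h0]; infer_instance
    | succ i ih =>
      have hle : S i.castSucc ≤ S i.succ := hm (Fin.castSucc_le_succ i)
      set N := (S i.castSucc).subgroupOf (S i.succ) with hN
      haveI : N.Normal := (hn i.castSucc).subgroupOf _
      haveI : Group.IsSolvable N := by
        haveI := ih
        exact Group.isSolvable_of_isSolvable_injective (f := (subgroupOfEquivOfLe hle).toMonoidHom)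
          (subgroupOfEquivOfLe hle).injective
      haveI : Group.IsSolvable (S i.succ ⧸ N) := by
        have hcard : Nat.card (S i.succ ⧸ N) = (S i.castSucc).relIndex (S i.succ) := rfl
        rcases hfac i with ⟨j, hj⟩ | h
        · haveI := (IsPGroup.of_card (hcard.trans hj)).isNilpotent
          infer_instance
        · refine OddOrder.Final.oddSolvable _ ?_
          rw [hcard, ← Nat.not_even_iff_odd, even_iff_two_dvd]
          exact fun hd => Nat.prime_two.one_lt.ne' (Nat.eq_one_of_dvd_coprimes h hd dvd_rfl)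
      exact Group.isSolvable_of_ker_le_range N.subtype (QuotientGroup.mk' N) (by simp)
  have h := key (Fin.last n)
  rw [hl] at h
  haveI := h
  exact Group.isSolvable_of_surjective (f := (Subgroup.topEquiv (G := G)).toMonoidHom)
    Subgroup.topEquiv.surjective

/-- A pair of invariant subspaces gives a representation on the factors of the chain. -/
theorem exists_graded_rep {K : Type u} [Monoid K] {V : Type u} [AddCommGroup V] [Finite V]
    [Module (ZMod 2) V] (ρ : K →* Module.End (ZMod 2) V) (A B : Submodule (ZMod 2) V)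
    (hA : ∀ k, ∀ v ∈ A, ρ k v ∈ A) (hB : ∀ k, ∀ v ∈ B, ρ k v ∈ B) :
    ∃ (W : Type u) (_ : AddCommGroup W) (_ : Finite W) (_ : Module (ZMod 2) W)
      (σ : K →* Module.End (ZMod 2) W),
      (∀ k j, (∀ v, ((ρ k - 1) ^ j) v ∈ A) → (∀ v ∈ A, ((ρ k - 1) ^ j) v ∈ B) →
        (∀ v ∈ B, ((ρ k - 1) ^ j) v = 0) → (σ k - 1) ^ j = 0) ∧
      ∀ k, σ k = 1 →
        (∀ v, (ρ k - 1) v ∈ A) ∧ (∀ v ∈ A, (ρ k - 1) v ∈ B) ∧ ∀ v ∈ B, (ρ k - 1) v = 0 := by
  let B' : Submodule (ZMod 2) A := B.comap A.subtype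
  let fA : K → Module.End (ZMod 2) A := fun k => (ρ k).restrict (hA k)
  let fB : K → Module.End (ZMod 2) B := fun k => (ρ k).restrict (hB k)
  have hfA : ∀ k (v : A), ((fA k v : A) : V) = ρ k v := fun k v => rfl
  have hB' : ∀ k, B' ≤ B'.comap (fA k) := fun k v hv => hB k _ hv
  let q1 : K → Module.End (ZMod 2) (V ⧸ A) := fun k => A.mapQ A (ρ k) fun v hv => hA k v hv
  let q2 : K → Module.End (ZMod 2) (A ⧸ B') := fun k => B'.mapQ B' (fA k) (hB' k)
  haveI : Finite (V ⧸ A) := Finite.of_surjective _ A.mkQ_surjective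
  haveI : Finite (A ⧸ B') := Finite.of_surjective _ B'.mkQ_surjective
  let σ : K →* Module.End (ZMod 2) ((V ⧸ A) × (A ⧸ B') × B) :=
    { toFun := fun k => (q1 k).prodMap ((q2 k).prodMap (fB k))
      map_one' := by
        refine LinearMap.ext ?_
        rintro ⟨a, b, c⟩
        obtain ⟨a, rfl⟩ := A.mkQ_surjective a
        obtain ⟨b, rfl⟩ := B'.mkQ_surjective b
        refine Prod.ext (congrArg A.mkQ ?_) (Prod.ext (congrArg B'.mkQ (Subtype.ext ?_))
          (Subtype.ext ?_))
        · show ρ 1 a = a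
          rw [map_one]; rfl
        · show ρ 1 (b : V) = b
          rw [map_one]; rfl
        · show ρ 1 (c : V) = c
          rw [map_one]; rfl
      map_mul' := fun k k' => by
        refine LinearMap.ext ?_
        rintro ⟨a, b, c⟩
        obtain ⟨a, rfl⟩ := A.mkQ_surjective a
        obtain ⟨b, rfl⟩ := B'.mkQ_surjective b
        refine Prod.ext (congrArg A.mkQ ?_) (Prod.ext (congrArg B'.mkQ (Subtype.ext ?_))
          (Subtype.ext ?_))
        · show ρ (k * k') a = ρ k (ρ k' a)
          rw [map_mul]; rfl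
        · show ρ (k * k') (b : V) = ρ k (ρ k' b)
          rw [map_mul]; rfl
        · show ρ (k * k') (c : V) = ρ k (ρ k' c)
          rw [map_mul]; rfl }
  have hcalc : ∀ k j (a : V) (b : A) (c : B), ∃ (b' : A) (c' : B),
      (b' : V) = ((ρ k - 1) ^ j : Module.End (ZMod 2) V) (b : V) ∧
      (c' : V) = ((ρ k - 1) ^ j : Module.End (ZMod 2) V) (c : V) ∧
      ((σ k - 1) ^ j : Module.End (ZMod 2) ((V ⧸ A) × (A ⧸ B') × B)) (A.mkQ a, B'.mkQ b, c) =
        (A.mkQ (((ρ k - 1) ^ j : Module.End (ZMod 2) V) a), B'.mkQ b', c') := by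
    intro k j a b c
    induction j with
    | zero => exact ⟨b, c, by simp, by simp, by simp⟩
    | succ j ih =>
      obtain ⟨b', c', hb, hc, he⟩ := ih
      refine ⟨fA k b' - b', fB k c' - c', ?_, ?_, ?_⟩
      · rw [pow_succ', Module.End.mul_apply, ← hb]
        rfl
      · rw [pow_succ', Module.End.mul_apply, ← hc]
        rfl
      · rw [pow_succ', Module.End.mul_apply, he, pow_succ', Module.End.mul_apply]
        rfl
  refine ⟨_, inferInstance, inferInstance, inferInstance, σ, fun k j h1 h2 h3 => ?_, fun k hk => ?_⟩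
  · refine LinearMap.ext ?_
    rintro ⟨a, b, c⟩
    obtain ⟨a, rfl⟩ := A.mkQ_surjective a
    obtain ⟨b, rfl⟩ := B'.mkQ_surjective b
    obtain ⟨b', c', hb, hc, he⟩ := hcalc k j a b c
    rw [he, LinearMap.zero_apply]
    refine Prod.ext ((Submodule.Quotient.mk_eq_zero A).2 (h1 a))
      (Prod.ext ((Submodule.Quotient.mk_eq_zero B').2 ?_) (Subtype.ext (hc.trans (h3 _ c.2))))
    show (b' : V) ∈ B
    rw [hb]; exact h2 _ b.2
  · refine ⟨fun v => ?_, fun v hv => ?_, fun v hv => ?_⟩
    · obtain ⟨b', c', -, -, he⟩ := hcalc k 1 v 0 0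
      rw [pow_one, pow_one, hk, sub_self, LinearMap.zero_apply] at he
      exact (Submodule.Quotient.mk_eq_zero A).1 (congrArg Prod.fst he).symm
    · obtain ⟨b', c', hb, -, he⟩ := hcalc k 1 0 ⟨v, hv⟩ 0
      rw [pow_one, pow_one, hk, sub_self, LinearMap.zero_apply] at he
      have h : (b' : V) ∈ B :=
        (Submodule.Quotient.mk_eq_zero B').1 (congrArg (fun w => w.2.1) he).symm
      rwa [hb, pow_one] at h
    · obtain ⟨b', c', -, hc, he⟩ := hcalc k 1 0 0 ⟨v, hv⟩
      rw [pow_one, pow_one, hk, sub_self, LinearMap.zero_apply] at he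
      rw [pow_one] at hc
      exact hc.symm.trans (congrArg Subtype.val (congrArg (fun w => w.2.2) he).symm)

theorem pow_eq_one_of_sub_pow_eq_zero {H : Type u} [Group H] {V : Type u} [AddCommGroup V]
    [Module (ZMod 2) V] {ρ : H →* Module.End (ZMod 2) V} (hinj : Function.Injective ρ) {x : H}
    {k j : ℕ} (hj : j ≤ 2 ^ k) (h : (ρ x - 1) ^ j = 0) : x ^ 2 ^ k = 1 := by
  haveI : Fact (Nat.Prime 2) := ⟨Nat.prime_two⟩
  have h1 : (ρ x - 1) ^ 2 ^ k = 0 := by
    rw [← Nat.add_sub_cancel' hj, pow_add, h, zero_mul]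
  rw [sub_pow_pow_end, sub_eq_zero, ← map_pow] at h1
  exact hinj (h1.trans ρ.map_one.symm)

/-- The induction on the exponent of the operators. -/
theorem pLengthLE_of_norm : ∀ (e : ℕ) {H : Type u} [Group H] [Finite H],
    Group.IsSolvable H → Cfsg.pCore 2 H = ⊥ → ∀ {V : Type u} [AddCommGroup V] [Finite V]
      [Module (ZMod 2) V] (ρ₀ : H →* Module.End (ZMod 2) V), Function.Injective ρ₀ →
      (∀ x : H, IsPGroup 2 (zpowers x) → (ρ₀ x - 1) ^ (2 ^ (e + 1) - 1) = 0) →
      Cfsg.PLengthLE 2 e H := by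
  haveI : Fact (Nat.Prime 2) := ⟨Nat.prime_two⟩
  intro e
  induction e with
  | zero =>
    intro H _ _ _ _ V _ _ _ ρ₀ hinj hnorm
    refine pLengthLE_zero fun P x hx => ?_
    refine pow_eq_one_of_sub_pow_eq_zero hinj (j := 1) le_rfl ?_
    exact hnorm x (P.isPGroup'.to_le (zpowers_le.2 hx))
  | succ m ih =>
    intro H _ _ hsol hcore V _ _ _ ρ₀ hinj₀ hnorm₀
    haveI := hsol
    refine pLengthLE_succ ?_
    obtain ⟨W₀, _, _, _, ρ, hinj, hρiff⟩ := exists_closure_rep ρ₀ hinj₀
    have hnorm : ∀ x : H, IsPGroup 2 (zpowers x) → (ρ x - 1) ^ (2 ^ (m + 2) - 1) = 0 :=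
      fun x hx => (hρiff x _).2 (hnorm₀ x hx)
    have hpow : ∀ x : H, IsPGroup 2 (zpowers x) → x ^ 2 ^ (m + 2) = 1 := fun x hx =>
      pow_eq_one_of_sub_pow_eq_zero hinj₀ (Nat.sub_le _ _) (hnorm₀ x hx)
    set M := (Cfsg.upperPSeries 2 H 2).1 with hM
    haveI : M.Normal := (Cfsg.upperPSeries 2 H 2).2
    obtain ⟨S⟩ := (inferInstance : Nonempty (Sylow 2 H))
    set R := (S : Subgroup H) ⊓ M with hR
    have hR2 : IsPGroup 2 R := S.isPGroup'.to_le inf_le_left
    set X := normalizer (R : Set H) with hX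
    obtain ⟨SM, hSM⟩ := Coprime.exists_sylow_map_eq (inf_le_right : R ≤ M)
      (Coprime.card_sylow_inf_normal S M)
    have hfrat : X ⊔ M = ⊤ := by
      have := Sylow.normalizer_sup_eq_top SM
      rwa [hSM] at this
    have htop : ∀ x ∈ X, IsPGroup 2 (zpowers x) → x ^ 2 ^ (m + 1) ∈ R := by
      intro x hx hx2
      obtain ⟨S', hS'⟩ := (hR2.to_sup_of_normal_left' hx2 (zpowers_le.2 hx)).exists_le_sylow
      have hxS : x ∈ (S' : Subgroup H) := hS' (mem_sup_right (mem_zpowers x))
      have heq : R = (S' : Subgroup H) ⊓ M := eq_of_le_of_card_ge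
        (le_inf (le_sup_left.trans hS') inf_le_right)
        (le_of_eq (by rw [Coprime.card_sylow_inf_normal S' M, hR, Coprime.card_sylow_inf_normal S M]))
      rw [heq]
      exact ⟨pow_mem hxS _, TwoLength.top_mem_upper hcore ρ hinj (n := m + 1)
        (fun P y hy => hpow y (P.isPGroup'.to_le (zpowers_le.2 hy))) hnorm S' hxS⟩
    set E := topGroup R m with hE
    have hER : E ≤ R := topGroup_le htop
    set O := omegaCenter E with hO
    have hXE : X ≤ normalizer (E : Set H) := normalizer_le_topGroup R m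
    have hXO : X ≤ normalizer (O : Set H) := hXE.trans (normalizer_le_omegaCenter E)
    obtain ⟨V₂, _, _, _, ρ₂, π, hinj₂, hsurj, hadd, hconj⟩ :=
      exists_layer_rep (p := 2) (Fusion.PSolvable.psolvable_of_solvable (G := H))
    have hlift : ∀ k : H ⧸ M, ∃ x ∈ X, QuotientGroup.mk' M x = k := fun k => by
      obtain ⟨g, rfl⟩ := QuotientGroup.mk'_surjective M k
      obtain ⟨x, hx, u, hu, rfl⟩ := mem_sup_of_normal_right.1 (hfrat.symm ▸ mem_top g)
      exact ⟨x, hx, by
        rw [map_mul, show QuotientGroup.mk' M u = 1 from (QuotientGroup.eq_one_iff u).2 hu, mul_one]⟩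
    set T0 := Submodule.span (ZMod 2) (π '' {a : M | (a : H) ∈ E}) with hT0
    set T1 := Submodule.span (ZMod 2) (π '' {a : M | (a : H) ∈ O}) with hT1
    have hinv : ∀ A : Subgroup H, X ≤ normalizer (A : Set H) → ∀ k,
        ∀ v ∈ Submodule.span (ZMod 2) (π '' {a : M | (a : H) ∈ A}),
          ρ₂ k v ∈ Submodule.span (ZMod 2) (π '' {a : M | (a : H) ∈ A}) := by
      intro A hA k v hv
      obtain ⟨x, hx, rfl⟩ := hlift k
      induction hv using Submodule.span_induction with
      | mem w hw =>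
        obtain ⟨a, ha, rfl⟩ := hw
        let b : M := ⟨x * a * x⁻¹, (inferInstance : M.Normal).conj_mem _ a.2 x⟩
        exact Submodule.subset_span ⟨b, (mem_normalizer_iff.1 (hA hx) (a : H)).1 ha, hconj x a b rfl⟩
      | zero => rw [map_zero]; exact zero_mem _
      | add a b _ _ ha hb => rw [map_add]; exact add_mem ha hb
      | smul c a _ ha => rw [map_smul]; exact Submodule.smul_mem _ c ha
    obtain ⟨W, _, _, _, σ, hσ, hσker⟩ :=
      exists_graded_rep ρ₂ T0 T1 (hinv E hXE) (hinv O hXO)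
    have hinjσ : Function.Injective σ := by
      refine (MonoidHom.ker_eq_bot_iff σ).1 (eq_bot_iff.2 ?_)
      rw [← pCore_mod_upper_two (p := 2) (G := H)]
      refine Cores.le_pCore fun k => ⟨2, Subtype.ext ?_⟩
      obtain ⟨h1, h2, h3⟩ := hσker k k.2
      show (k : H ⧸ M) ^ 2 ^ 2 = 1
      refine pow_eq_one_of_sub_pow_eq_zero hinj₂ (j := 3) (by norm_num) (LinearMap.ext fun v => ?_)
      rw [pow_succ', Module.End.mul_apply, pow_succ', Module.End.mul_apply, pow_one]
      exact h3 _ (h2 _ (h1 v))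
    refine ih inferInstance pCore_mod_upper_two σ hinjσ fun k hk => ?_
    -- a two-element above `k` normalising `R`
    obtain ⟨x, hxX, hx2, rfl⟩ : ∃ x ∈ X, IsPGroup 2 (zpowers x) ∧ QuotientGroup.mk' M x = k := by
      obtain ⟨x₀, hx₀, hx₀k⟩ := hlift k
      obtain ⟨a, b, hb, hab⟩ := Nat.exists_eq_two_pow_mul_odd (orderOf_pos x₀).ne'
      obtain ⟨i, hi⟩ := hk ⟨k, mem_zpowers k⟩
      have hcop : b.Coprime (orderOf k) :=
        ((Nat.prime_two.coprime_iff_not_dvd.2 hb.not_two_dvd_nat).symm.pow_right i).coprime_dvd_right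
          (orderOf_dvd_of_pow_eq_one (congrArg Subtype.val hi))
      obtain ⟨c, hc⟩ := exists_pow_eq_self_of_coprime hcop
      refine ⟨(x₀ ^ b) ^ c, pow_mem (pow_mem hx₀ b) c, ?_, by rw [map_pow, map_pow, hx₀k, hc]⟩
      have h1 : ((x₀ ^ b) ^ c) ^ 2 ^ a = 1 := by
        rw [← pow_mul, mul_comm, pow_mul, ← pow_mul x₀, mul_comm b, ← hab, pow_orderOf_eq_one, one_pow]
      obtain ⟨j, -, hj⟩ := (Nat.dvd_prime_pow Nat.prime_two).1 (orderOf_dvd_of_pow_eq_one h1)
      exact IsPGroup.of_card (n := j) (by rw [Nat.card_zpowers, hj])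
    have hπ1 : π 1 = 0 := by
      have h := hadd 1 1
      rwa [mul_one, left_eq_add] at h
    have hN : ∀ a : M, ∃ b : M, (b : H) = ((a : H) * x) ^ 2 ^ (m + 1) * (x ^ 2 ^ (m + 1))⁻¹ ∧
        π b = ((ρ₂ (QuotientGroup.mk' M x) - 1) ^ (2 ^ (m + 1) - 1) : Module.End (ZMod 2) V₂) (π a) := by
      intro a
      obtain ⟨b, hb, hπ⟩ := exists_pow_translate ρ₂ π hadd hconj x a (2 ^ (m + 1))
      refine ⟨b, by rw [hb, mul_inv_cancel_right], ?_⟩
      rw [sub_one_pow_pred_end]
      exact hπ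
    refine hσ _ _ (fun v => ?_) (fun v hv => ?_) fun v hv => ?_
    · obtain ⟨a, ha, rfl⟩ := hsurj S v
      obtain ⟨b, hb, hπ⟩ := hN a
      rw [← hπ]
      refine Submodule.subset_span ⟨b, ?_, rfl⟩
      show (b : H) ∈ E
      rw [hb]
      have haR : (a : H) ∈ R := ⟨ha, a.2⟩
      exact mul_mem (top_mem_topGroup (mul_mem (le_normalizer haR) hxX)
          (isPGroup_zpowers_mul hR2 hxX hx2 haR)) (inv_mem (top_mem_topGroup hxX hx2))
    · induction hv using Submodule.span_induction with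
      | mem w hw =>
        obtain ⟨a, ha, rfl⟩ := hw
        obtain ⟨b, hb, hπ⟩ := hN a
        rw [← hπ]
        refine Submodule.subset_span ⟨b, ?_, rfl⟩
        show (b : H) ∈ O
        rw [hb]
        exact top_mul_mem_omegaCenter ρ hinj hnorm hpow hR2 htop hcore hxX hx2 ha
      | zero => rw [map_zero]; exact zero_mem _
      | add a b _ _ ha hb => rw [map_add]; exact add_mem ha hb
      | smul c a _ ha => rw [map_smul]; exact Submodule.smul_mem _ c ha
    · induction hv using Submodule.span_induction with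
      | mem w hw =>
        obtain ⟨a, ha, rfl⟩ := hw
        obtain ⟨b, hb, hπ⟩ := hN a
        rw [top_mul_eq ρ hinj hnorm hpow hR2 htop hcore hxX hx2 ha, mul_inv_cancel] at hb
        rw [← hπ, show b = 1 from Subtype.ext hb, hπ1]
      | zero => rw [map_zero]
      | add a b _ _ ha hb => rw [map_add, ha, hb, add_zero]
      | smul c a _ ha => rw [map_smul, ha, smul_zero]

/-- The two-length is at most the exponent of a Sylow two-subgroup. -/
theorem pLengthLE_of_sylow_exponent {G : Type u} [Group G] [Finite G]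
    (hG : Cfsg.IsPSolvable 2 G) {e : ℕ}
    (hexp : ∀ P : Sylow 2 G, ∀ x ∈ (P : Subgroup G), x ^ 2 ^ e = 1) : Cfsg.PLengthLE 2 e G := by
  haveI : Fact (Nat.Prime 2) := ⟨Nat.prime_two⟩
  rcases e with _ | e
  · exact pLengthLE_zero hexp
  haveI := isSolvable_of_isPSolvable_two hG
  haveI : ((Cfsg.upperPSeries 2 G 2).1).Normal := (Cfsg.upperPSeries 2 G 2).2
  refine pLengthLE_succ ?_
  obtain ⟨V, _, _, _, ρ₀, π, hinj, hsurj, hadd, hconj⟩ := exists_layer_rep (p := 2) hG
  exact pLengthLE_of_norm e inferInstance pCore_mod_upper_two ρ₀ hinj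
    fun x hx => norm_eq_zero_of_exponent ρ₀ π hsurj hadd hconj hexp hx

end CfsgLib.Solvable.TwoLengthExp
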