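import Cfsg.Agent.Lib.Solvable.TwoLengthExp.PlaneTops
import Cfsg.Agent.Lib.Solvable.TwoLength.Tools
import Cfsg.Agent.Lib.Solvable.FPFOperators.HallHigmanB
import Cfsg.Agent.Lib.Solvable.FPFOperators.ExceptionalTops

/-!
# Plane tops on the blocks

On the block of a central character of a normal `q`-subgroup of class two, an exceptional two-element
induces a root of an involution moving an irreducible plane.
-/

set_option autoImplicit false

namespace CfsgLib.Solvable.TwoLengthExp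

open Subgroup CfsgLib CfsgLib.Solvable.FPFOperators
open scoped commutatorElement

universe u v w

section Form

variable {M : Type*} [CommGroup M] [Finite M] (hM : ∀ v : M, v * v = 1 → v = 1) {q : ℕ}
  [Fact q.Prime] {G : Type*} [CommGroup G] (B : M → M → G)
  (hl : ∀ u v w, B u (v * w) = B u v * B u w) (hs : ∀ u v, B v u = (B u v)⁻¹)

include hM hl in
/-- A fixed and an inverted vector are orthogonal. -/
theorem form_orth {t : MulAut M} (hinv : ∀ u v, B (t u) (t v) = B u v) {f j : M} (hf : t f = f)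
    (hj : t j = j⁻¹) : B f j = 1 := by
  have h1 : ∀ u, B u 1 = 1 := fun u => by
    have h := hl u 1 1
    rwa [one_mul, right_eq_mul] at h
  obtain ⟨w, hw⟩ := exists_sqrt hM j
  have htw : t w = w⁻¹ := sqrt_unique hM (by rw [← map_mul, hw, hj, ← mul_inv, hw])
  have h := hinv f w
  rw [hf, htw] at h
  rw [← hw, hl]
  nth_rw 1 [← h]
  rw [← hl, inv_mul_cancel, h1]

include hM hl hs in
/-- A root of an involution moving a nondegenerate plane. -/
theorem planeTop_of_form (hd : ∀ u, B u u = 1) (hnd : ∀ u, (∀ v, B u v = 1) → u = 1)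
    {Y : Subgroup (MulAut M)} (hinv : ∀ t ∈ Y, ∀ u v, B (t u) (t v) = B u v) {r : MulAut M}
    (hrY : r ∈ Y) (hr4 : r ^ 2 * r ^ 2 = 1) (hq : q % 4 = 3)
    (hcard : Nat.card (negPart (r ^ 2)) = q * q) : PlaneTop Y r := by
  classical
  have hqp : q.Prime := Fact.out
  have hpow : ∀ (u v : M) (i : ℕ), B u (v ^ i) = B u v ^ i := fun u v i => by
    induction i with
    | zero =>
      rw [pow_zero, pow_zero]
      have h := hl u 1 1
      rwa [one_mul, right_eq_mul] at h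
    | succ i ih => rw [pow_succ, hl, ih, pow_succ]
  have hsub : ∀ L : Subgroup M, L ≤ negPart (r ^ 2) → L = ⊥ ∨ Nat.card L = q ∨
      negPart (r ^ 2) ≤ L := fun L hL => by
    obtain ⟨i, hi2, hi⟩ := (Nat.dvd_prime_pow hqp).1
      (show Nat.card L ∣ q ^ 2 from by rw [pow_two q, ← hcard]; exact card_dvd_of_le hL)
    interval_cases i
    · exact .inl ((card_eq_one).1 (by rw [hi, pow_zero]))
    · exact .inr (.inl (by rw [hi, pow_one]))
    · exact .inr (.inr (eq_of_le_of_card_ge hL (by rw [hi, pow_two q, hcard])).ge)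
  have hcyc : ∀ {L : Subgroup M}, Nat.card L = q → ∀ {u : M}, u ∈ L → u ≠ 1 → ∀ v ∈ L,
      ∃ i : ℕ, v = u ^ i := fun {L} hL {u} hu hu1 v hv => by
    have hord : orderOf u = q := ((Nat.dvd_prime hqp).1 (hL ▸ L.orderOf_dvd_natCard hu)).resolve_left
      fun h => hu1 (orderOf_eq_one_iff.1 h)
    have hLu : zpowers u = L :=
      eq_of_le_of_card_ge (zpowers_le.2 hu) (by rw [Nat.card_zpowers, hord, hL])
    rw [← hLu] at hv
    obtain ⟨i, rfl⟩ := (isOfFinOrder_of_finite u).mem_powers_iff_mem_zpowers.2 hv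
    exact ⟨i, rfl⟩
  refine ⟨hr4, fun L hL hinvL => ?_, fun t ht hpres htt => ?_⟩
  · rcases hsub L hL with h | h | h
    · exact .inl h
    · exfalso
      obtain ⟨u, hu, hu1⟩ := (bot_or_exists_ne_one L).resolve_left fun h0 => by
        rw [h0, card_bot] at h; exact hqp.one_lt.ne h
      obtain ⟨k, hk⟩ := hcyc h hu hu1 _ (hinvL u hu)
      have hord : orderOf u = q :=
        ((Nat.dvd_prime hqp).1 (h ▸ L.orderOf_dvd_natCard hu)).resolve_left
          fun h0 => hu1 (orderOf_eq_one_iff.1 h0)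
      have h2 : u ^ (k * k + 1) = 1 := by
        have h3 : (r ^ 2) u = u⁻¹ := hL hu
        rw [← sq_apply_self, hk, map_pow, hk, ← pow_mul] at h3
        rw [pow_succ, h3, inv_mul_cancel]
      have h5 : ((k * k + 1 : ℕ) : ZMod q) = 0 := by
        rw [CharP.cast_eq_zero_iff (ZMod q) q, ← hord]
        exact orderOf_dvd_of_pow_eq_one h2
      push_cast at h5
      refine absurd hq (ZMod.exists_sq_eq_neg_one_iff.1 ⟨(k : ZMod q), ?_⟩)
      exact (eq_neg_of_add_eq_zero_left h5).symm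
    · exact .inr h
  · -- the induced involutions
    have hsplit : ∀ v ∈ negPart (r ^ 2), ∃ f ∈ negPart (r ^ 2), ∃ j ∈ negPart (r ^ 2),
        t f = f ∧ t j = j⁻¹ ∧ f * j = v := by
      intro v hv
      obtain ⟨w, hw⟩ := exists_sqrt hM v
      have hwN : w ∈ negPart (r ^ 2) :=
        sqrt_unique hM (by rw [← map_mul, hw, mem_negPart.1 hv, ← mul_inv, hw])
      have hww : t (t w) = w := htt w hwN
      refine ⟨w * t w, mul_mem hwN (hpres w hwN), w * (t w)⁻¹,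
        mul_mem hwN (inv_mem (hpres w hwN)), by rw [map_mul, hww, mul_comm], ?_, ?_⟩
      · rw [map_mul, map_inv, hww, mul_inv, inv_inv, mul_comm]
      · rw [mul_mul_mul_comm, mul_inv_cancel, mul_one, hw]
    set F : Subgroup M := negPart (r ^ 2) ⊓ t.toMonoidHom.eqLocus (MonoidHom.id M) with hF
    rcases hsub F inf_le_left with h | h | h
    · right
      intro v hv
      obtain ⟨f, hfN, j, -, hf, hj, rfl⟩ := hsplit v hv
      have hf1 : f ∈ (⊥ : Subgroup M) := h ▸ (mem_inf.2 ⟨hfN, hf⟩)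
      rw [mem_bot.1 hf1, one_mul]
      exact hj
    · exfalso
      obtain ⟨u, hu, hu1⟩ := (bot_or_exists_ne_one F).resolve_left fun h0 => by
        rw [h0, card_bot] at h; exact hqp.one_lt.ne h
      refine hu1 (hnd u fun v => ?_)
      obtain ⟨w, hw, hn, hp⟩ := exists_decomp hM hr4 v
      obtain ⟨f, hfN, j, -, hf, hj, hfj⟩ := hsplit _ hn
      have hv : v = f * j * (w * (r ^ 2) w) := by
        rw [hfj, mul_mul_mul_comm, inv_mul_cancel, mul_one, hw]
      have h1 : B (w * (r ^ 2) w) u = 1 :=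
        form_orth hM B hl (hinv _ (pow_mem hrY 2)) hp (mem_negPart.1 (inf_le_left (a := negPart (r ^ 2)) hu))
      obtain ⟨i, hi⟩ := hcyc h hu hu1 f (mem_inf.2 ⟨hfN, hf⟩)
      rw [hv, hl, hl, hi, hpow, hd, one_pow, one_mul,
        form_orth hM B hl (hinv t ht) (show t u = u from hu.2) hj, one_mul, hs, h1, inv_one]
    · exact .inl fun v hv => (h hv).2

end Form

variable {Γ : Type u} [Group Γ] [Finite Γ] {K : Type v} [Field K] [IsAlgClosed K] [CharP K 2]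
  {W : Type w} [AddCommGroup W] [Module K W] [FiniteDimensional K W]

/-- The quotient attached to one weight, with the action of the stabiliser. -/
theorem exists_block {q : ℕ} [Fact q.Prime] (hq2 : q ≠ 2) (ρ : Γ →* Module.End K W)
    (C Z : Subgroup Γ) [hCn : C.Normal] [hZn : Z.Normal] [Fintype Z] (hC : IsPGroup q C) (hZC : Z ≤ C)
    (hZc : ∀ z ∈ Z, ∀ y ∈ C, y * z = z * y) (hcomm : ∀ x ∈ C, ∀ y ∈ C, ⁅x, y⁆ ∈ Z) (m : ℕ)
    (l : Z →* Kˣ) :
    ∃ (M : Type u) (_ : CommGroup M) (_ : Finite M)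
      (φ : MulAction.stabilizer Γ l →* MulAut M),
      (∀ v : M, v * v = 1 → v = 1) ∧
      (∀ τ, φ τ = 1 → ∀ y ∈ C, ∀ x ∈ C, ρ (⁅(τ : Γ), y⁆ * x) * weightIdem Z ρ l =
        ρ (x * ⁅(τ : Γ), y⁆) * weightIdem Z ρ l) ∧
      ∀ s : Γ, s ^ 2 ^ (m + 2) = 1 → (ρ s - 1) ^ (2 ^ (m + 2) - 1) = 0 →
        (∀ z ∈ Z, s ^ 2 ^ (m + 1) * z = z * s ^ 2 ^ (m + 1)) →
        (∀ hr : s ^ 2 ^ m ∈ MulAction.stabilizer Γ l, PlaneTop φ.range (φ ⟨_, hr⟩)) ∧
        (s ^ 2 ^ m ∉ MulAction.stabilizer Γ l →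
          ∀ ha : s ^ 2 ^ (m + 1) ∈ MulAction.stabilizer Γ l, φ ⟨_, ha⟩ = 1) := by
  classical
  haveI : Fact (Nat.Prime 2) := ⟨Nat.prime_two⟩
  have hq : q.Prime := Fact.out
  have hcopqp : q.Coprime 2 := (Nat.coprime_primes hq Nat.prime_two).2 hq2
  set e := weightIdem Z ρ l with he
  set St := MulAction.stabilizer Γ l with hSt
  have hcSt : ∀ o ∈ St, ρ o * e = e * ρ o := fun o ho => by
    rw [he, map_mul_weightIdem_smul, MulAction.mem_stabilizer_iff.1 ho]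
  have hCSt : C ≤ St := fun o ho => dual_smul_eq_self_of_commute l fun z hz => hZc z hz o ho
  have hCe : ∀ o ∈ C, Commute (ρ o) e := fun o ho => hcSt o (hCSt ho)
  set R := wCentral C ρ e hCe with hR
  have hRst : St ≤ normalizer (R : Set Γ) := le_normalizer_iff.2 fun g hg x hx =>
    conj_mem_wCentral ρ (hcSt g hg) hx
  have hRC : R ≤ C := wCentral_le ρ
  have hZR : Z ≤ R := fun z hz => ⟨hZC hz, fun o ho => by rw [hZc z hz o ho]⟩
  haveI hRn : (R.subgroupOf C).Normal :=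
    (normal_subgroupOf_iff_le_normalizer hRC).2 (hCSt.trans hRst)
  set ψ := QuotientGroup.mk' (R.subgroupOf C) with hψ
  have hψs : Function.Surjective ψ := QuotientGroup.mk'_surjective _
  have hψ1 : ∀ x : C, ψ x = 1 ↔ (x : Γ) ∈ R := fun x => QuotientGroup.eq_one_iff x
  letI instM : CommGroup (C ⧸ R.subgroupOf C) :=
    { QuotientGroup.Quotient.group (R.subgroupOf C) with
      mul_comm := fun x y => by
        obtain ⟨x, rfl⟩ := hψs x
        obtain ⟨y, rfl⟩ := hψs y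
        rw [← commutatorElement_eq_one_iff_mul_comm, ← map_commutatorElement, hψ1]
        exact hZR (show C.subtype ⁅x, y⁆ ∈ Z from by rw [map_commutatorElement]; exact hcomm x x.2 y y.2) }
  have hM : ∀ v : C ⧸ R.subgroupOf C, v * v = 1 → v = 1 := fun v hv => by
    obtain ⟨b, hb⟩ := (hC.to_quotient (R.subgroupOf C)) v
    have h1 := pow_gcd_eq_one.mpr ⟨hb, (pow_two v).trans hv⟩
    rwa [(hcopqp.pow_left b).gcd_eq_one, pow_one] at h1
  let cj : St → MulAut C := fun t => MulAut.conjNormal (t : Γ)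
  have hcj : ∀ (t : St) (x : C), ((cj t x : C) : Γ) = (t : Γ) * x * (t : Γ)⁻¹ :=
    fun t x => MulAut.conjNormal_apply _ _
  have hmapR : ∀ t : St, (R.subgroupOf C).map (cj t).toMonoidHom = R.subgroupOf C := by
    intro t
    ext x
    constructor
    · rintro ⟨x, hx, rfl⟩
      show ((cj t x : C) : Γ) ∈ R
      rw [hcj]
      exact (mem_normalizer_iff.1 (hRst t.2) _).1 hx
    · intro hx
      refine ⟨(cj t).symm x, ?_, (cj t).apply_symm_apply x⟩
      show (((cj t).symm x : C) : Γ) ∈ R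
      refine (mem_normalizer_iff.1 (hRst t.2) _).2 ?_
      rw [← hcj, (cj t).apply_symm_apply]
      exact hx
  let φ : St →* MulAut (C ⧸ R.subgroupOf C) := MonoidHom.mk'
    (fun t => QuotientGroup.congr _ _ (cj t) (hmapR t)) fun t t' => MulEquiv.ext fun v => by
      obtain ⟨x, rfl⟩ := hψs v
      show ψ (cj (t * t') x) = ψ (cj t (cj t' x))
      refine congrArg ψ (Subtype.ext ?_)
      rw [hcj, hcj, hcj, Subgroup.coe_mul]
      group
  have hφ : ∀ (t : St) (x : C), φ t (ψ x) = ψ (cj t x) := fun t x => rfl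
  have hmove : ∀ (t : St) (x : C), φ t (ψ x) * (ψ x)⁻¹ =
      ψ ⟨⁅(t : Γ), (x : Γ)⁆, commutator_mem_of_normal hCn _ x.2⟩ := by
    intro t x
    rw [hφ, ← map_inv ψ, ← map_mul ψ]
    refine congrArg ψ (Subtype.ext ?_)
    rw [Subgroup.coe_mul, hcj]
    rfl
  refine ⟨C ⧸ R.subgroupOf C, instM, inferInstance, φ, hM, fun τ hτ y hy x hx => ?_,
    fun s hs hr hz => ?_⟩
  · have h1 := hmove τ ⟨y, hy⟩
    rw [hτ, MulAut.one_apply, mul_inv_cancel, eq_comm, hψ1] at h1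
    exact h1.2 x hx
  set a := s ^ 2 ^ (m + 1) with had
  have haSt : a ∈ St := MulAction.mem_stabilizer_iff.2 (dual_smul_eq_self_of_commute l hz)
  have hap : a ^ 2 = 1 := by rw [had, ← pow_mul, ← pow_succ, hs]
  set z := φ ⟨a, haSt⟩ with hzdef
  have hz2 : z * z = 1 := by
    rw [hzdef, ← map_mul, show (⟨a, haSt⟩ : St) * ⟨a, haSt⟩ = 1 from
      Subtype.ext (show a * a = 1 by rw [← pow_two, hap]), map_one]
  have hrsq : ∀ hr : s ^ 2 ^ m ∈ St, φ ⟨_, hr⟩ ^ 2 = z := fun hr => by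
    rw [hzdef, ← map_pow]
    exact congrArg φ (Subtype.ext (show (s ^ 2 ^ m) ^ 2 = a by rw [had, ← pow_mul, ← pow_succ]))
  by_cases hz1 : z = 1
  · refine ⟨fun hr => ⟨by rw [hrsq, hz2], fun L hL _ => .inl (eq_bot_iff.2 fun v hv => ?_),
      fun t _ _ _ => .inl fun v hv => ?_⟩, fun _ _ => hz1⟩
    · have h := hL hv
      rw [hrsq, hz1] at h
      exact mem_bot.2 (hM v (eq_inv_iff_mul_eq_one.1 h))
    · rw [hrsq, hz1] at hv
      rw [hM v (eq_inv_iff_mul_eq_one.1 hv), map_one]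
  -- the moved part
  set mk := QuotientGroup.mk' Z with hmk
  have hmk1 : ∀ x, mk x = 1 ↔ x ∈ Z := fun x => QuotientGroup.eq_one_iff x
  have hCcomm : ∀ x ∈ C, ∀ o ∈ C, mk x * mk o = mk o * mk x := fun x hx o ho => by
    rw [← commutatorElement_eq_one_iff_mul_comm, ← map_commutatorElement, hmk1]
    exact hcomm x hx o ho
  let D : C →* Γ ⧸ Z := MonoidHom.mk' (fun x => mk ⁅a, (x : Γ)⁆) fun x o => by
    show mk ⁅a, (x : Γ) * o⁆ = mk ⁅a, (x : Γ)⁆ * mk ⁅a, (o : Γ)⁆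
    rw [show ⁅a, (x : Γ) * o⁆ = ⁅a, (x : Γ)⁆ * ((x : Γ) * ⁅a, (o : Γ)⁆ * (x : Γ)⁻¹) by
      simp only [commutatorElement_def]; group, map_mul, map_mul, map_mul,
      hCcomm x x.2 _ (commutator_mem_of_normal hCn _ o.2), map_inv, mul_inv_cancel_right]
  set Qa := D.range.comap mk with hQa
  have hQamem : ∀ {x : Γ}, x ∈ Qa ↔ ∃ o ∈ C, mk x = mk ⁅a, o⁆ := fun {x} =>
    ⟨fun ⟨o, ho⟩ => ⟨o, o.2, ho.symm⟩, fun ⟨o, ho, h⟩ => ⟨⟨o, ho⟩, h.symm⟩⟩
  have hQC : Qa ≤ C := by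
    intro x hx
    obtain ⟨o, ho, h⟩ := hQamem.1 hx
    have h1 : x⁻¹ * ⁅a, o⁆ ∈ Z := QuotientGroup.eq.1 h
    have h2 : x⁻¹ ∈ C := by
      have := C.mul_mem (hZC h1) (C.inv_mem (commutator_mem_of_normal hCn a ho))
      rwa [mul_inv_cancel_right] at this
    exact (C.inv_mem_iff).1 h2
  have hZQa : Z ≤ Qa := fun z hz => hQamem.2 ⟨1, one_mem C, by
    rw [commutatorElement_one_right, map_one, (hmk1 z).2 hz]⟩
  have hmemQa : ∀ o ∈ C, ⁅a, o⁆ ∈ Qa := fun o ho => hQamem.2 ⟨o, ho, rfl⟩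
  have hsQa : s ∈ normalizer (Qa : Set Γ) := by
    refine le_normalizer_iff.2 (fun g hg x hx => ?_) (mem_zpowers s)
    have hga : g * a = a * g := by
      obtain ⟨i, rfl⟩ := mem_zpowers_iff.1 hg
      exact ((show Commute s a from Commute.self_pow s _).zpow_left i).eq
    obtain ⟨o, ho, h⟩ := hQamem.1 hx
    refine hQamem.2 ⟨g * o * g⁻¹, hCn.conj_mem o ho g, ?_⟩
    rw [map_mul, map_mul, h, ← map_mul, ← map_mul]
    congr 1
    rw [show g * ⁅a, o⁆ * g⁻¹ = ⁅g * a * g⁻¹, g * o * g⁻¹⁆ by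
      simp only [commutatorElement_def]; group, hga, mul_inv_cancel_right]
  have hQp : IsPGroup q Qa := hC.to_le hQC
  by_cases hne : ∃ o ∈ Qa, ρ (a * o) * e ≠ ρ (o * a) * e
  swap
  · exfalso
    push Not at hne
    obtain ⟨θ, -, hθeq, -, -⟩ := exists_range_rep ρ e St hcSt
    refine hz1 (MulEquiv.ext fun v => ?_)
    obtain ⟨x, rfl⟩ := hψs v
    rw [MulAut.one_apply, ← mul_inv_eq_one, hzdef, hmove, hψ1]
    set o := ⁅a, (x : Γ)⁆ with ho
    have hoC : o ∈ C := commutator_mem_of_normal hCn _ x.2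
    have h1 : ⁅θ.toHomUnits ⟨a, haSt⟩, θ.toHomUnits ⟨x, hCSt x.2⟩⁆ = 1 := by
      refine eq_one_of_commute_commutator (p := 2) ?_ ?_ ?_
      · rw [← map_pow, show (⟨a, haSt⟩ : St) ^ 2 = 1 from Subtype.ext hap, map_one]
      · rw [← map_commutatorElement, ← map_mul, ← map_mul]
        refine Units.ext ((hθeq _ _).2 ?_)
        rw [Subgroup.coe_mul, Subgroup.coe_mul,
          show ((⁅(⟨a, haSt⟩ : St), (⟨x, hCSt x.2⟩ : St)⁆ : St) : Γ) = o from
            map_commutatorElement St.subtype _ _]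
        exact hne o (hmemQa x x.2)
      · rw [← map_commutatorElement]
        obtain ⟨b, hb⟩ := hC ⟨o, hoC⟩
        refine (hcopqp.pow_left b).coprime_dvd_left ((orderOf_map_dvd _ _).trans
          (orderOf_dvd_of_pow_eq_one (St.subtype_injective ?_)))
        rw [map_pow, map_commutatorElement, map_one]
        exact congrArg Subtype.val hb
    rw [← map_commutatorElement] at h1
    have h2 : θ ⁅(⟨a, haSt⟩ : St), (⟨x, hCSt x.2⟩ : St)⁆ = θ 1 :=
      (congrArg Units.val h1).trans θ.map_one.symm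
    have h3 : ρ o * e = e := by
      have h4 := (hθeq _ _).1 h2
      rwa [show ((⁅(⟨a, haSt⟩ : St), (⟨x, hCSt x.2⟩ : St)⁆ : St) : Γ) = o from
            map_commutatorElement St.subtype _ _, Subgroup.coe_one, map_one, one_mul] at h4
    refine ⟨hoC, fun w hw => ?_⟩
    calc ρ (o * w) * e = ρ o * (ρ w * e) := by rw [map_mul, mul_assoc]
      _ = ρ o * e * ρ w := by rw [(hCe w hw).eq, mul_assoc]
      _ = e * ρ w := by rw [h3]
      _ = ρ w * e := (hCe w hw).eq.symm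
      _ = ρ (w * o) * e := by rw [map_mul, mul_assoc, h3]
  have hl0 : e ≠ 0 := by
    obtain ⟨o, -, ho⟩ := hne
    exact fun h0 => ho (by rw [h0, mul_zero, mul_zero])
  -- the form
  let κ : C → C → Kˣ := fun x y => l ⟨⁅(x : Γ), (y : Γ)⁆, hcomm x x.2 y y.2⟩
  have hκ1 : ∀ x y : C, κ x y = 1 ↔ ρ ⁅(x : Γ), (y : Γ)⁆ * e = e := fun x y => by
    have h := map_mem_mul_weightIdem ρ l ⟨⁅(x : Γ), (y : Γ)⁆, hcomm x x.2 y y.2⟩
    rw [← he] at h
    rw [← Units.val_inj, Units.val_one, show ρ ⁅(x : Γ), (y : Γ)⁆ * e = (κ x y : K) • e from h]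
    exact ⟨fun h1 => by rw [h1, one_smul],
      fun h1 => smul_left_injective K hl0 (h1.trans (one_smul K e).symm)⟩
  have hκR : ∀ x : C, (x : Γ) ∈ R ↔ ∀ y : C, κ x y = 1 := fun x => by
    rw [hR, mem_wCentral]
    exact ⟨fun h y => (hκ1 x y).2 (h.2 y y.2), fun h => ⟨x.2, fun y hy => (hκ1 x ⟨y, hy⟩).1 (h _)⟩⟩
  have hκl : ∀ x x' y : C, κ (x * x') y = κ x y * κ x' y := by
    intro x x' y
    rw [← map_mul]
    refine congrArg l (Subtype.ext ?_)
    show ⁅(x : Γ) * x', (y : Γ)⁆ = ⁅(x : Γ), (y : Γ)⁆ * ⁅(x' : Γ), (y : Γ)⁆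
    have h2 := hZc _ (hcomm x' x'.2 y y.2)
    calc ⁅(x : Γ) * x', (y : Γ)⁆ = x * ⁅(x' : Γ), (y : Γ)⁆ * (x : Γ)⁻¹ * ⁅(x : Γ), (y : Γ)⁆ := by
          simp only [commutatorElement_def]; group
      _ = ⁅(x : Γ), (y : Γ)⁆ * ⁅(x' : Γ), (y : Γ)⁆ := by
          rw [h2 x x.2, mul_inv_cancel_right]
          exact hZc _ (hcomm x x.2 y y.2) _ (hZC (hcomm x' x'.2 y y.2))
  have hκs : ∀ x y : C, κ y x = (κ x y)⁻¹ := fun x y => by
    rw [← map_inv]
    exact congrArg l (Subtype.ext (commutatorElement_inv (x : Γ) y).symm)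
  have hκψ : ∀ x x' y : C, ψ x = ψ x' → κ x y = κ x' y := by
    intro x x' y h
    have h1 := (hκR (x⁻¹ * x')).1 (show x⁻¹ * x' ∈ R.subgroupOf C from QuotientGroup.eq.1 h) y
    rw [← mul_one (κ x y), ← h1, ← hκl, mul_inv_cancel_left]
  let B : C ⧸ R.subgroupOf C → C ⧸ R.subgroupOf C → Kˣ := fun u v => κ u.out v.out
  have hout : ∀ u : C ⧸ R.subgroupOf C, ψ u.out = u := fun u => QuotientGroup.out_eq' u
  have hB : ∀ x y : C, B (ψ x) (ψ y) = κ x y := fun x y => by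
    show κ (ψ x).out (ψ y).out = _
    rw [hκψ _ x _ (hout _), hκs, hκψ _ y _ (hout _), ← hκs]
  have hBs : ∀ u v, B v u = (B u v)⁻¹ := fun u v => hκs _ _
  have hBl : ∀ u v w, B u (v * w) = B u v * B u w := fun u v w => by
    obtain ⟨x, rfl⟩ := hψs u
    obtain ⟨y, rfl⟩ := hψs v
    obtain ⟨y', rfl⟩ := hψs w
    rw [← map_mul, hB, hB, hB, hκs, hκl, mul_inv, ← hκs, ← hκs]
  have hBd : ∀ u, B u u = 1 := fun u => (hκ1 _ _).2 (by
    rw [commutatorElement_self, map_one, one_mul])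
  have hBnd : ∀ u, (∀ v, B u v = 1) → u = 1 := fun u hu => by
    rw [← hout u, hψ1, hκR]
    intro y
    rw [← hB, hout]
    exact hu _
  have hBinv : ∀ t ∈ φ.range, ∀ u v, B (t u) (t v) = B u v := by
    rintro _ ⟨τ, rfl⟩ u v
    obtain ⟨x, rfl⟩ := hψs u
    obtain ⟨y, rfl⟩ := hψs v
    rw [hφ, hφ, hB, hB]
    let c : Z := ⟨⁅(x : Γ), (y : Γ)⁆, hcomm x x.2 y y.2⟩
    have h2 : ((τ : Γ) • l) (MulAut.conjNormal (τ : Γ) c) = l c := by
      rw [dual_smul_apply, ← MulAut.mul_apply, ← map_mul, inv_mul_cancel, map_one, MulAut.one_apply]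
    rw [MulAction.mem_stabilizer_iff.1 τ.2] at h2
    show l _ = l c
    rw [← h2]
    refine congrArg l (Subtype.ext ?_)
    show ⁅((cj τ x : C) : Γ), ((cj τ y : C) : Γ)⁆ = _
    rw [hcj, hcj, MulAut.conjNormal_apply]
    simp only [c, commutatorElement_def]
    group
  -- the block
  have hfix : ∀ o ∈ Qa, (a * o = o * a ↔ o ∈ Z) := by
    refine fun o ho => ⟨fun hc => ?_, fun hoZ => hz o hoZ⟩
    obtain ⟨w, hw, h⟩ := hQamem.1 ho
    rw [← hmk1]
    obtain ⟨b, hb⟩ := hC ⟨o, hQC ho⟩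
    rw [h, map_commutatorElement]
    refine eq_one_of_commute_commutator (p := 2) (by rw [← map_pow, hap, map_one]) ?_ ?_
    · rw [← map_commutatorElement, ← h, ← map_mul, ← map_mul, hc]
    · rw [← map_commutatorElement, ← h]
      exact (hcopqp.pow_left b).coprime_dvd_left ((orderOf_map_dvd _ _).trans
        (orderOf_dvd_of_pow_eq_one (congrArg Subtype.val hb)))
  obtain ⟨α, d, hαn, hαl, hdN, -, -, R', hR'mem, hd, hQR', -⟩ :=
    theoremB_block_at (n := m + 1) (r := 2 ^ (m + 2) - 1) hq2 ρ Qa Z hQp hZQa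
      (fun z hz o ho => hZc z hz o (hQC ho)) (fun x hx o ho => hcomm x (hQC hx) o (hQC ho)) hs hsQa
      hfix l hne hr (Nat.sub_lt (pow_pos Nat.prime_two.pos _) Nat.one_pos)
  obtain ⟨b, hb⟩ := IsPGroup.iff_card.mp hQp
  obtain ⟨k, -, hk⟩ : ∃ k ≤ b, d = q ^ k := (Nat.dvd_prime_pow hq).1 (by
    rw [← hb]
    exact (Dvd.intro d hd.symm).trans (Subgroup.relIndex_dvd_card _ _))
  have hk1 : 1 ≤ k := Nat.pos_of_ne_zero fun h0 => hQR' (Subgroup.relIndex_eq_one.1 (by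
    rw [hd, hk, h0, pow_zero, one_mul]))
  have hq3 : 3 ≤ q := by have := hq.two_le; omega
  have hdq : d = q := by
    rw [hk, TwoLength.exponent_eq_one (hq.odd_of_ne_two hq2) hq3 hk1 (by rw [← hk]; exact hdN),
      pow_one]
  rw [hdq] at hd hdN
  have hf2 : 2 ≤ m + 1 - α + 1 := by
    by_contra hlt
    have := Nat.pow_le_pow_right (show 2 > 0 by norm_num) (show m + 1 - α + 1 ≤ 1 by omega)
    omega
  have hq4 : q % 4 = 3 := by
    have h4 : 4 ∣ 2 ^ (m + 1 - α + 1) := by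
      rw [show (4 : ℕ) = 2 ^ 2 from rfl]; exact pow_dvd_pow 2 hf2
    omega
  have hrSt : s ^ 2 ^ m ∈ St := by
    rw [show 2 ^ m = 2 ^ α * 2 ^ (m - α) by rw [← pow_add, Nat.add_sub_cancel' (by omega)], pow_mul]
    exact pow_mem (MulAction.mem_stabilizer_iff.2 hαl) _
  refine ⟨fun hr' => ?_, fun h => absurd hrSt h⟩
  have hN : negPart z = (Qa.subgroupOf C).map ψ := by
    refine le_antisymm (fun v hv => ?_) ?_
    · obtain ⟨y, hy⟩ := exists_sqrt hM v
      have hzy : z y = y⁻¹ := sqrt_unique hM (by rw [← map_mul, hy, mem_negPart.1 hv, ← mul_inv, hy])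
      obtain ⟨x, rfl⟩ := hψs y
      refine inv_mem_iff.1 ⟨⟨⁅a, (x : Γ)⁆, commutator_mem_of_normal hCn _ x.2⟩, hmemQa x x.2, ?_⟩
      rw [← hy, ← hmove ⟨a, haSt⟩ x, ← hzdef, hzy, mul_inv]
    · rintro _ ⟨⟨w, hwC⟩, hw, rfl⟩
      obtain ⟨o, ho, h⟩ := hQamem.1 hw
      have h1 : w⁻¹ * ⁅a, o⁆ ∈ Z := QuotientGroup.eq.1 h
      have h2 : ψ ⟨w, hwC⟩ = ψ ⟨⁅a, o⁆, commutator_mem_of_normal hCn _ ho⟩ :=
        QuotientGroup.eq.2 (show w⁻¹ * ⁅a, o⁆ ∈ R from hZR h1)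
      rw [h2, ← hmove ⟨a, haSt⟩ ⟨o, ho⟩, ← hzdef, mem_negPart, map_mul, map_inv,
        ← MulAut.mul_apply, hz2, MulAut.one_apply, mul_inv, inv_inv, mul_comm]
  have hR'R : R ⊓ Qa = R' := by
    ext x
    rw [hR'mem, mem_inf]
    refine ⟨fun h => ⟨h.2, fun y hy => h.1.2 y (hQC hy)⟩, fun h => ⟨?_, h.1⟩⟩
    have hxC := hQC h.1
    refine (hκR ⟨x, hxC⟩).2 fun y => ?_
    have hxN : ψ ⟨x, hxC⟩ ∈ negPart z := by rw [hN]; exact ⟨⟨x, hxC⟩, h.1, rfl⟩
    obtain ⟨w, hw, hn, hp⟩ := exists_decomp hM hz2 (ψ y)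
    rw [hN] at hn
    obtain ⟨n₀, hn₀, hn₀e⟩ := hn
    have h0 : κ ⟨x, hxC⟩ n₀ = 1 := by
      rw [hκ1, commutatorElement_def]
      have h3 := h.2 n₀ hn₀
      have hc : Commute (ρ (x⁻¹ * (n₀ : Γ)⁻¹)) e :=
        hCe _ (mul_mem (inv_mem hxC) (inv_mem n₀.2))
      rw [show x * (n₀ : Γ) * x⁻¹ * (n₀ : Γ)⁻¹ = x * n₀ * (x⁻¹ * (n₀ : Γ)⁻¹) by group, map_mul,
        mul_assoc, hc.eq, ← mul_assoc, h3, mul_assoc, ← hc.eq, ← mul_assoc, ← map_mul,
        show (n₀ : Γ) * x * (x⁻¹ * (n₀ : Γ)⁻¹) = 1 by group, map_one, one_mul]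
    have h1 : B (w * z w) (ψ ⟨x, hxC⟩) = 1 :=
      form_orth hM B hBl (hBinv z ⟨_, rfl⟩) hp (mem_negPart.1 hxN)
    rw [← hB, ← hw, show w * w = w * (z w)⁻¹ * (w * z w) by
        rw [mul_mul_mul_comm, inv_mul_cancel, mul_one], hBl, ← hn₀e, hB, h0, hBs, h1, inv_one,
      mul_one]
  have hcard : Nat.card (negPart z) = q * q := by
    rw [hN, ← Subgroup.relIndex_ker, hψ, QuotientGroup.ker_mk',
      Subgroup.relIndex_subgroupOf hQC, ← inf_relIndex_right, hR'R, hd]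
  refine planeTop_of_form hM B hBl hBs hBd hBnd hBinv ⟨_, rfl⟩ ?_ hq4 ?_
  · rw [hrsq, hz2]
  · rw [hrsq]; exact hcard

end CfsgLib.Solvable.TwoLengthExp
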