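import Mathlib

/-!
# Roots of involutions moving a plane

`M` is an abelian group of odd order. A "plane top" is an automorphism `r` with `r ^ 4 = 1` whose
square `z` has a moved part `N = {v | z v = v⁻¹}` without proper `r`-invariant subgroups, such that the
only involutions induced on `N` by elements of the ambient group are `1` and inversion.
-/

set_option autoImplicit false

namespace CfsgLib.Solvable.TwoLengthExp

open Subgroup
open scoped commutatorElement

variable {M : Type*} [CommGroup M]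

/-- The part inverted by an automorphism. -/
def negPart (z : MulAut M) : Subgroup M where
  carrier := {v | z v = v⁻¹}
  one_mem' := by simp
  mul_mem' := fun {a b} (ha : z a = a⁻¹) (hb : z b = b⁻¹) => by
    show z (a * b) = (a * b)⁻¹
    rw [map_mul, ha, hb, mul_inv]
  inv_mem' := fun {a} (ha : z a = a⁻¹) => by
    show z a⁻¹ = a⁻¹⁻¹
    rw [map_inv, ha]

theorem mem_negPart {z : MulAut M} {v : M} : v ∈ negPart z ↔ z v = v⁻¹ := Iff.rfl

theorem commute_apply {a b : MulAut M} (h : Commute a b) (v : M) : a (b v) = b (a v) := by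
  rw [← MulAut.mul_apply, h.eq, MulAut.mul_apply]

theorem mem_negPart_of_commute {a z : MulAut M} (h : Commute a z) {v : M} (hv : v ∈ negPart z) :
    a v ∈ negPart z := by
  show z (a v) = (a v)⁻¹
  rw [← commute_apply h, mem_negPart.1 hv, map_inv]

theorem sq_apply_self (r : MulAut M) (v : M) : r (r v) = (r ^ 2) v := by
  rw [pow_two, MulAut.mul_apply]

theorem inv_apply_of_neg {r : MulAut M} {v : M} (hv : v ∈ negPart (r ^ 2)) : r⁻¹ v = (r v)⁻¹ := by
  refine r.injective ?_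
  rw [MulAut.apply_inv_self, map_inv, sq_apply_self, mem_negPart.1 hv, inv_inv]

section Odd

variable [Finite M] (hM : ∀ v : M, v * v = 1 → v = 1)

include hM

theorem exists_sqrt (v : M) : ∃ w, w * w = v := by
  have hinj : Function.Injective fun w : M => w * w := fun a b h => by
    have : (a * b⁻¹) * (a * b⁻¹) = 1 := by
      rw [mul_mul_mul_comm, show a * a = b * b from h, ← mul_inv, mul_inv_cancel]
    exact mul_inv_eq_one.1 (hM _ this)
  exact Finite.injective_iff_surjective.1 hinj v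

theorem sqrt_unique {a b : M} (h : a * a = b * b) : a = b :=
  mul_inv_eq_one.1 (hM _ (by rw [mul_mul_mul_comm, h, ← mul_inv, mul_inv_cancel]))

theorem eq_one_of_neg_pos {z : MulAut M} {v : M} (h1 : v ∈ negPart z) (h2 : z v = v) : v = 1 := by
  refine hM v ?_
  conv_lhs => arg 1; rw [← h2, mem_negPart.1 h1]
  exact inv_mul_cancel v

/-- Decomposition along an involution. -/
theorem exists_decomp {z : MulAut M} (hz : z * z = 1) (v : M) :
    ∃ w, w * w = v ∧ w * (z w)⁻¹ ∈ negPart z ∧ z (w * z w) = w * z w := by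
  obtain ⟨w, rfl⟩ := exists_sqrt hM v
  have hzz : z (z w) = w := by rw [← MulAut.mul_apply, hz, MulAut.one_apply]
  refine ⟨w, rfl, ?_, ?_⟩
  · show z (w * (z w)⁻¹) = (w * (z w)⁻¹)⁻¹
    rw [map_mul, map_inv, hzz, mul_inv, inv_inv, mul_comm]
  · rw [map_mul, hzz, mul_comm]

theorem eq_one_of_negPart_eq_bot {z : MulAut M} (hz : z * z = 1) (h : negPart z = ⊥) : z = 1 := by
  refine MulEquiv.ext fun v => ?_
  obtain ⟨w, hw, hn, -⟩ := exists_decomp hM hz v
  rw [h, mem_bot, mul_inv_eq_one] at hn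
  rw [← hw, map_mul, ← hn]
  exact (by simp)

/-- Commuting involutions with the same moved part are equal. -/
theorem eq_of_negPart_eq {z z' : MulAut M} (hz : z * z = 1) (hz' : z' * z' = 1) (hc : Commute z z')
    (h : negPart z' = negPart z) : z' = z := by
  refine MulEquiv.ext fun v => ?_
  obtain ⟨w, hw, hn, hp⟩ := exists_decomp hM hz v
  set a := w * (z w)⁻¹ with ha
  set b := w * z w with hb
  have hv : v = a * b := by
    rw [ha, hb, ← hw]
    rw [mul_mul_mul_comm, inv_mul_cancel, mul_one]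
  have hza : z a = a⁻¹ := hn
  clear_value a b
  have hb' : z' b = b := by
    obtain ⟨u, hu, hun, hup⟩ := exists_decomp hM hz' b
    have hzu : z u = u := sqrt_unique hM (by rw [← map_mul, hu]; exact hp)
    have : u * (z' u)⁻¹ = 1 := by
      refine eq_one_of_neg_pos hM (h ▸ hun) ?_
      rw [map_mul, map_inv, commute_apply hc, hzu]
    rw [mul_inv_eq_one] at this
    rw [← hu, map_mul, ← this]
  have ha' : z' a = a⁻¹ := by
    have : a ∈ negPart z' := h.symm ▸ hn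
    exact this
  rw [hv, map_mul, map_mul, hza, hp, ha', hb']

end Odd

/-- `r` is a root of an involution moving an irreducible plane. -/
structure PlaneTop (Y : Subgroup (MulAut M)) (r : MulAut M) : Prop where
  sq : r ^ 2 * r ^ 2 = 1
  irr : ∀ L : Subgroup M, L ≤ negPart (r ^ 2) → (∀ v ∈ L, r v ∈ L) →
    L = ⊥ ∨ negPart (r ^ 2) ≤ L
  rule : ∀ t ∈ Y, (∀ v ∈ negPart (r ^ 2), t v ∈ negPart (r ^ 2)) →
    (∀ v ∈ negPart (r ^ 2), t (t v) = v) →
    (∀ v ∈ negPart (r ^ 2), t v = v) ∨ ∀ v ∈ negPart (r ^ 2), t v = v⁻¹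

theorem pow_four_apply (g : MulAut M) (v : M) : (g ^ 4) v = g (g (g (g v))) := by
  simp [pow_succ, MulAut.mul_apply]

variable [Finite M] (hM : ∀ v : M, v * v = 1 → v = 1) {Y : Subgroup (MulAut M)} {r g : MulAut M}

theorem conj_inv_eq {z : MulAut M} (hc2 : ⁅g, z⁆ * ⁅g, z⁆ = 1) (hcg : Commute ⁅g, z⁆ g) :
    g⁻¹ * z * g = ⁅g, z⁆ * z := by
  have h : g * z * g⁻¹ = ⁅g, z⁆ * z := by rw [commutatorElement_def]; group
  have h' : g⁻¹ * (⁅g, z⁆ * z) * g = z := by rw [← h]; group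
  calc g⁻¹ * z * g = ⁅g, z⁆ * (g⁻¹ * (⁅g, z⁆ * z) * g) := by
        rw [← mul_assoc g⁻¹, ← (hcg.inv_right).eq]
        simp only [mul_assoc]
        rw [← mul_assoc ⁅g, z⁆ ⁅g, z⁆, hc2, one_mul]
    _ = ⁅g, z⁆ * z := by rw [h']

theorem mem_negPart_swap {z : MulAut M} (hc2 : ⁅g, z⁆ * ⁅g, z⁆ = 1) (hcg : Commute ⁅g, z⁆ g)
    {v : M} (hv : v ∈ negPart ⁅g, z⁆) :
    g v ∈ negPart ⁅g, z⁆ ∧ g⁻¹ v ∈ negPart ⁅g, z⁆ ∧ (v ∈ negPart z → z (g v) = g v) ∧
      (z v = v → g v ∈ negPart z) ∧ (z v = v → g⁻¹ v ∈ negPart z) := by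
  have e : z * g = g * (⁅g, z⁆ * z) := by rw [← conj_inv_eq hc2 hcg]; group
  have e' : z * g⁻¹ = g⁻¹ * (⁅g, z⁆ * z) := by rw [commutatorElement_def]; group
  refine ⟨mem_negPart_of_commute hcg.symm hv, mem_negPart_of_commute hcg.inv_right.symm hv,
    fun hn => ?_, fun hp => ?_, fun hp => ?_⟩
  · rw [← MulAut.mul_apply, e, MulAut.mul_apply, MulAut.mul_apply, mem_negPart.1 hn, map_inv,
      mem_negPart.1 hv, inv_inv]
  · show z (g v) = (g v)⁻¹
    rw [← MulAut.mul_apply, e, MulAut.mul_apply, MulAut.mul_apply, hp, mem_negPart.1 hv, map_inv]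
  · show z (g⁻¹ v) = (g⁻¹ v)⁻¹
    rw [← MulAut.mul_apply, e', MulAut.mul_apply, MulAut.mul_apply, hp, mem_negPart.1 hv, map_inv]

include hM in
/-- A noncommuting `g` doubles the plane. -/
theorem negPart_le (hr : PlaneTop Y r) (hcY : ⁅g, r ^ 2⁆ ∈ Y)
    (hc2 : ⁅g, r ^ 2⁆ * ⁅g, r ^ 2⁆ = 1) (hcg : Commute ⁅g, r ^ 2⁆ g)
    (hcz : Commute ⁅g, r ^ 2⁆ (r ^ 2)) (hne : ⁅g, r ^ 2⁆ ≠ 1) :
    negPart (r ^ 2) ≤ negPart ⁅g, r ^ 2⁆ := by
  set z := r ^ 2 with hz
  set c := ⁅g, z⁆ with hc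
  rcases hr.rule c hcY (fun v hv => mem_negPart_of_commute hcz hv)
    (fun v _ => by rw [← MulAut.mul_apply, hc2, MulAut.one_apply]) with h | h
  swap
  · exact h
  exfalso
  refine hne (eq_one_of_negPart_eq_bot hM hc2 (eq_bot_iff.2 fun v hv => mem_bot.2 ?_))
  have hNU : ∀ u ∈ negPart c, u ∈ negPart z → u = 1 := fun u hu hu' =>
    eq_one_of_neg_pos hM hu (h u hu')
  obtain ⟨w, hw, hn, hp⟩ := exists_decomp hM hr.sq v
  have hwc : w ∈ negPart c := by
    show c w = w⁻¹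
    refine sqrt_unique hM ?_
    rw [← map_mul, hw, mem_negPart.1 hv, ← mul_inv, hw]
  have hzw : z w ∈ negPart c := mem_negPart_of_commute hcz.symm hwc
  have h1 := hNU _ (mul_mem hwc (inv_mem hzw)) hn
  have hbc : w * z w ∈ negPart c := mul_mem hwc hzw
  obtain ⟨hgU, -, -, hgN, -⟩ := mem_negPart_swap hc2 hcg hbc
  have h2 := hNU _ hgU (hgN hp)
  rw [MulEquiv.map_eq_one_iff] at h2
  rw [mul_inv_eq_one] at h1
  rw [← h1] at h2
  rw [← hw]
  exact h2

include hM in
/-- The action of `r` on the translate of the plane. -/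
theorem exists_sign (hr : PlaneTop Y r) (hrY : r ∈ Y) (hgY : g ∈ Y)
    (hc2 : ⁅g, r ^ 2⁆ * ⁅g, r ^ 2⁆ = 1) (hcg : Commute ⁅g, r ^ 2⁆ g)
    (hcz : Commute ⁅g, r ^ 2⁆ (r ^ 2)) (hcr : Commute r ⁅g, r ^ 2⁆) (hne : ⁅g, r ^ 2⁆ ≠ 1) :
    (∀ v ∈ negPart (r ^ 2), r (g v) = g v) ∨ ∀ v ∈ negPart (r ^ 2), r (g v) = (g v)⁻¹ := by
  set z := r ^ 2 with hz
  set c := ⁅g, z⁆ with hc
  have hcY : c ∈ Y := by
    rw [hc, hz, commutatorElement_def]
    exact mul_mem (mul_mem (mul_mem hgY (pow_mem hrY 2)) (inv_mem hgY)) (inv_mem (pow_mem hrY 2))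
  have hle := negPart_le hM hr hcY hc2 hcg hcz hne
  have hrz : Commute r z := Commute.self_pow r 2
  have hpos : ∀ v ∈ negPart z, z (g v) = g v := fun v hv =>
    (mem_negPart_swap hc2 hcg (hle hv)).2.2.1 hv
  rcases hr.rule (g⁻¹ * r * g) (mul_mem (mul_mem (inv_mem hgY) hrY) hgY) (fun v hv => by
      rw [MulAut.mul_apply, MulAut.mul_apply]
      refine (mem_negPart_swap hc2 hcg (mem_negPart_of_commute hcr
        (mem_negPart_of_commute hcg.symm (hle hv)))).2.2.2.2 ?_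
      rw [commute_apply hrz.symm, hpos v hv])
    (fun v hv => by
      rw [← MulAut.mul_apply, show g⁻¹ * r * g * (g⁻¹ * r * g) = g⁻¹ * z * g by
        rw [hz, pow_two]; group, MulAut.mul_apply, MulAut.mul_apply, hpos v hv, MulAut.inv_apply_self])
    with h | h
  · left
    intro v hv
    have h1 := congrArg g (h v hv)
    rwa [MulAut.mul_apply, MulAut.mul_apply, MulAut.apply_inv_self] at h1
  · right
    intro v hv
    have h1 := congrArg g (h v hv)
    rwa [MulAut.mul_apply, MulAut.mul_apply, MulAut.apply_inv_self, map_inv] at h1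

include hM in
theorem negPart_ne_bot (hr : PlaneTop Y r) (hne : ⁅g, r ^ 2⁆ ≠ 1) : negPart (r ^ 2) ≠ ⊥ :=
  fun h => hne (by rw [eq_one_of_negPart_eq_bot hM hr.sq h, commutatorElement_one_right])

include hM in
/-- `g` cannot commute with its conjugate under `r`. -/
theorem false_of_commute_conj (hr : PlaneTop Y r) (hrY : r ∈ Y) (hgY : g ∈ Y)
    (hc2 : ⁅g, r ^ 2⁆ * ⁅g, r ^ 2⁆ = 1) (hcg : Commute ⁅g, r ^ 2⁆ g)
    (hcz : Commute ⁅g, r ^ 2⁆ (r ^ 2)) (hcr : Commute r ⁅g, r ^ 2⁆) (hne : ⁅g, r ^ 2⁆ ≠ 1)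
    (hgg : Commute g (r * g * r⁻¹)) : False := by
  set z := r ^ 2 with hz
  refine negPart_ne_bot hM hr hne (eq_bot_iff.2 fun v hv => mem_bot.2 ?_)
  set g' := r * g * r⁻¹ with hg'
  have hcY : ⁅g, z⁆ ∈ Y := by
    rw [hz, commutatorElement_def]
    exact mul_mem (mul_mem (mul_mem hgY (pow_mem hrY 2)) (inv_mem hgY)) (inv_mem (pow_mem hrY 2))
  have hle := negPart_le hM hr hcY hc2 hcg hcz hne
  have hgg2 : ∀ u ∈ negPart z, g (g u) ∈ negPart z := fun u hu => by
    obtain ⟨h1, -, h2, -⟩ := mem_negPart_swap hc2 hcg (hle hu)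
    exact (mem_negPart_swap hc2 hcg h1).2.2.2.1 (h2 hu)
  have hrN : ∀ u ∈ negPart z, r u ∈ negPart z := fun u hu =>
    mem_negPart_of_commute (Commute.self_pow r 2) hu
  have hgv : ∀ u ∈ negPart z, z (g u) = g u := fun u hu =>
    (mem_negPart_swap hc2 hcg (hle hu)).2.2.1 hu
  have e1 : g (g' v) = g' (g v) := commute_apply hgg v
  have e2 : g' (g (g v)) = g (g (g' v)) := by
    rw [commute_apply hgg.symm, commute_apply hgg.symm]
  have d1 : ∀ u ∈ negPart z, g' u = (r (g (r u)))⁻¹ := fun u hu => by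
    rw [hg', MulAut.mul_apply, MulAut.mul_apply, inv_apply_of_neg hu, map_inv, map_inv]
  have hrinv : ∀ u, r⁻¹ (g u) = r (z⁻¹ (g u)) := fun u => by
    show r⁻¹ (g u) = (r * z⁻¹) (g u)
    rw [show r * z⁻¹ = r⁻¹ by rw [hz, pow_two]; group]
  have hzi : ∀ u ∈ negPart z, z⁻¹ (g u) = g u := fun u hu => by
    conv_lhs => rw [← hgv u hu]
    exact MulAut.inv_apply_self _ z _
  have d2 : g' (g v) = r (g (r (g v))) := by
    rw [hg', MulAut.mul_apply, MulAut.mul_apply, hrinv, hzi v hv]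
  rw [d2, d1 v hv, map_inv] at e1
  rw [d1 _ (hgg2 v hv), d1 v hv, map_inv, map_inv, inv_inj] at e2
  have key : (g (g (r v)))⁻¹ = r (g (g v)) ∧ r (g (g v)) = g (g (r v)) := by
    rcases exists_sign hM hr hrY hgY hc2 hcg hcz hcr hne with h | h
    · rw [h _ (hrN v hv), h v hv] at e1
      rw [h _ (hrN _ (hgg2 v hv)), h _ (hrN v hv)] at e2
      exact ⟨e1, g.injective e2⟩
    · rw [h _ (hrN v hv), h v hv, map_inv, map_inv, map_inv, inv_inv] at e1
      rw [h _ (hrN _ (hgg2 v hv)), h _ (hrN v hv), map_inv, map_inv, inv_inj] at e2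
      refine ⟨?_, g.injective e2⟩
      rw [e1, inv_inv]
  obtain ⟨k1, k2⟩ := key
  rw [k2] at k1
  have h3 := hM (g (g (r v))) (inv_eq_iff_mul_eq_one.1 k1)
  simpa using h3

include hM in
/-- `g * r` has order eight. -/
theorem false_of_pow_four (hr : PlaneTop Y r) (hrY : r ∈ Y) (hgY : g ∈ Y)
    (hc2 : ⁅g, r ^ 2⁆ * ⁅g, r ^ 2⁆ = 1) (hcg : Commute ⁅g, r ^ 2⁆ g)
    (hcz : Commute ⁅g, r ^ 2⁆ (r ^ 2)) (hcr : Commute r ⁅g, r ^ 2⁆) (hne : ⁅g, r ^ 2⁆ ≠ 1)
    (hg4 : g ^ 4 = 1) (hgr : (g * r) ^ 4 = 1) : False := by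
  set z := r ^ 2 with hz
  refine negPart_ne_bot hM hr hne (eq_bot_iff.2 fun v hv => mem_bot.2 ?_)
  have hcY : ⁅g, z⁆ ∈ Y := by
    rw [hz, commutatorElement_def]
    exact mul_mem (mul_mem (mul_mem hgY (pow_mem hrY 2)) (inv_mem hgY)) (inv_mem (pow_mem hrY 2))
  have hle := negPart_le hM hr hcY hc2 hcg hcz hne
  have hrN : ∀ u ∈ negPart z, r u ∈ negPart z := fun u hu =>
    mem_negPart_of_commute (Commute.self_pow r 2) hu
  have hgg2 : ∀ u ∈ negPart z, (g ^ 2) u ∈ negPart z := fun u hu => by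
    rw [← sq_apply_self]
    obtain ⟨h1, -, h2, -⟩ := mem_negPart_swap hc2 hcg (hle hu)
    exact (mem_negPart_swap hc2 hcg h1).2.2.2.1 (h2 hu)
  have hrr : r (r v) = v⁻¹ := by rw [sq_apply_self]; exact hv
  have e : (g * r) ^ 4 = 1 := hgr
  have h4 : g (r (g (r (g (r (g (r v))))))) = v := by
    have := DFunLike.congr_fun e v
    rwa [pow_four_apply, MulAut.one_apply] at this
  have hv' : r v ∈ negPart z := hrN v hv
  have hg2 := hr.rule (g ^ 2) (pow_mem hgY 2) hgg2 (fun u _ => by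
    rw [← MulAut.mul_apply, ← pow_add, hg4, MulAut.one_apply])
  have key : (∀ u ∈ negPart z, g (r (g (r u))) = r u) ∨
      ∀ u ∈ negPart z, g (r (g (r u))) = (r u)⁻¹ := by
    rcases exists_sign hM hr hrY hgY hc2 hcg hcz hcr hne with h | h <;> rcases hg2 with hb | hb
    · exact Or.inl fun u hu => by rw [h _ (hrN u hu), sq_apply_self, hb _ (hrN u hu)]
    · exact Or.inr fun u hu => by rw [h _ (hrN u hu), sq_apply_self, hb _ (hrN u hu)]
    · exact Or.inr fun u hu => by rw [h _ (hrN u hu), map_inv, sq_apply_self, hb _ (hrN u hu)]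
    · exact Or.inl fun u hu => by
        rw [h _ (hrN u hu), map_inv, sq_apply_self, hb _ (hrN u hu), inv_inv]
  refine hM v (inv_eq_iff_mul_eq_one.1 ?_)
  rcases key with k | k
  · rw [k v hv, k _ hv', hrr] at h4
    exact h4
  · rw [k v hv, map_inv, map_inv, map_inv, map_inv, k _ hv', inv_inv, hrr] at h4
    exact h4

include hM in
/-- A root times an involution preserving the plane has the same square. -/
theorem sq_eq_of_plane (hr : PlaneTop Y r) {P : MulAut M} (hr' : PlaneTop Y (P * r))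
    (hz : r ^ 2 ≠ 1) (hPz : Commute P (r ^ 2))
    (hP : (∀ v ∈ negPart (r ^ 2), P v = v) ∨ ∀ v ∈ negPart (r ^ 2), P v = v⁻¹) :
    (P * r) ^ 2 = r ^ 2 := by
  set z := r ^ 2 with hzdef
  have hc : Commute (P * r) z := hPz.mul_left (Commute.self_pow r 2)
  have hrN : ∀ v ∈ negPart z, r v ∈ negPart z := fun v hv =>
    mem_negPart_of_commute (Commute.self_pow r 2) hv
  have hle : negPart z ≤ negPart ((P * r) ^ 2) := by
    intro v hv
    show ((P * r) ^ 2) v = v⁻¹
    have hrr : r (r v) = v⁻¹ := by rw [sq_apply_self]; exact hv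
    rw [← sq_apply_self, MulAut.mul_apply, MulAut.mul_apply]
    rcases hP with h | h
    · rw [h _ (hrN v hv), hrr, h _ (inv_mem hv)]
    · rw [h _ (hrN v hv), map_inv, hrr, inv_inv, h _ hv]
  rcases hr'.irr _ hle (fun v hv => mem_negPart_of_commute hc hv) with h | h
  · exact absurd (eq_one_of_negPart_eq_bot hM hr.sq h) hz
  · exact eq_of_negPart_eq hM hr.sq hr'.sq (hc.pow_left 2).symm (le_antisymm h hle)

include hM in
/-- An involution commuting with both squares does not change the square. -/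
theorem sq_eq_of_involution (hr : PlaneTop Y r) {P : MulAut M} (hPY : P ∈ Y)
    (hr' : PlaneTop Y (P * r)) (hP : P * P = 1) (h1 : Commute P (r ^ 2))
    (h2 : Commute P ((P * r) ^ 2)) : (P * r) ^ 2 = r ^ 2 := by
  have key : ∀ {r : MulAut M}, PlaneTop Y r → PlaneTop Y (P * r) → Commute P (r ^ 2) → r ^ 2 ≠ 1 →
      (P * r) ^ 2 = r ^ 2 := fun {r} hr hr' h1 hz =>
    sq_eq_of_plane hM hr hr' hz h1 (hr.rule P hPY (fun v hv => mem_negPart_of_commute h1 hv)
      fun v _ => by rw [← MulAut.mul_apply, hP, MulAut.one_apply])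
  by_cases hz : r ^ 2 = 1
  · by_cases hz' : (P * r) ^ 2 = 1
    · rw [hz, hz']
    · have h := key hr' (by rwa [← mul_assoc, hP, one_mul]) h2 hz'
      rw [← mul_assoc, hP, one_mul] at h
      exact h.symm
  · exact key hr hr' h1 hz

section ClassTwo

variable {E : Subgroup (MulAut M)} (hEY : E ≤ Y)
  (hcen : ∀ a ∈ E, ∀ b ∈ E, ∀ e ∈ E, Commute ⁅a, b⁆ e)
  (hsq : ∀ a ∈ E, ∀ b ∈ E, ⁅a, b⁆ * ⁅a, b⁆ = 1) (hfour : ∀ a ∈ E, a ^ 4 = 1)
  (hrY : r ∈ Y) (hrE : ∀ a ∈ E, r * a * r⁻¹ ∈ E) (hzE : r ^ 2 ∈ E)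

include hM hEY hcen hsq hrY hrE hzE

omit hrY hrE in
theorem commutator_unique (hr : PlaneTop Y r) {a b : MulAut M} (ha : a ∈ E) (hb : b ∈ E)
    (hna : ⁅a, r ^ 2⁆ ≠ 1) (hnb : ⁅b, r ^ 2⁆ ≠ 1) : ⁅a, r ^ 2⁆ = ⁅b, r ^ 2⁆ := by
  set z := r ^ 2 with hz
  have hm : ∀ {x : MulAut M}, x ∈ E → ⁅x, z⁆ ∈ E := fun {x} hx => by
    rw [commutatorElement_def]
    exact mul_mem (mul_mem (mul_mem hx hzE) (inv_mem hx)) (inv_mem hzE)
  have hab : ⁅a * b, z⁆ = ⁅a, z⁆ * ⁅b, z⁆ := by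
    calc ⁅a * b, z⁆ = a * ⁅b, z⁆ * a⁻¹ * ⁅a, z⁆ := by simp only [commutatorElement_def]; group
      _ = ⁅a, z⁆ * ⁅b, z⁆ := by
        rw [← (hcen b hb z hzE a ha).eq, mul_inv_cancel_right, (hcen b hb z hzE _ (hm ha)).eq]
  by_contra hne
  have hne' : ⁅a * b, z⁆ ≠ 1 := fun h0 => hne (by
    rw [hab, mul_eq_one_iff_eq_inv] at h0
    rw [h0]
    exact inv_eq_of_mul_eq_one_left (hsq b hb z hzE))
  have hle : ∀ {x : MulAut M}, x ∈ E → ⁅x, z⁆ ≠ 1 → negPart z ≤ negPart ⁅x, z⁆ := fun {x} hx h =>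
    negPart_le hM hr (hEY (hm hx)) (hsq x hx z hzE) (hcen x hx z hzE x hx) (hcen x hx z hzE z hzE) h
  refine negPart_ne_bot hM hr hna (eq_bot_iff.2 fun v hv => mem_bot.2 ?_)
  refine eq_one_of_neg_pos hM (hle (mul_mem ha hb) hne' hv) ?_
  rw [hab, MulAut.mul_apply, hle hb hnb hv, map_inv, hle ha hna hv, inv_inv]

theorem commute_root (hr : PlaneTop Y r) {a : MulAut M} (ha : a ∈ E) :
    Commute r ⁅a, r ^ 2⁆ := by
  by_cases hne : ⁅a, r ^ 2⁆ = 1
  · rw [hne]; exact Commute.one_right r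
  have e : ⁅r * a * r⁻¹, r ^ 2⁆ = r * ⁅a, r ^ 2⁆ * r⁻¹ := by
    rw [pow_two]; simp only [commutatorElement_def]; group
  have h := commutator_unique hM hEY hcen hsq hzE hr (hrE a ha) ha (by
    rw [e]
    intro h0
    exact hne (conj_eq_one_iff.1 h0)) hne
  rw [e] at h
  exact mul_inv_eq_iff_eq_mul.1 h

include hfour

theorem commute_sq (hr : PlaneTop Y r) {P : MulAut M} (hP : P ∈ E) (h4 : (P * r) ^ 4 = 1) :
    Commute P (r ^ 2) := by
  by_contra hne
  exact false_of_pow_four hM hr hrY (hEY hP) (hsq P hP _ hzE) (hcen P hP _ hzE P hP)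
    (hcen P hP _ hzE _ hzE) (commute_root hM hEY hcen hsq hrY hrE hzE hr hP)
    (fun h => hne (commutatorElement_eq_one_iff_mul_comm.1 h)) (hfour P hP) h4

theorem commutator_eq_of_ne (hr : PlaneTop Y r) {P : MulAut M} (hP : P ∈ E)
    (hr' : PlaneTop Y (P * r)) (hP1 : Commute P (r ^ 2)) {a : MulAut M} (ha : a ∈ E)
    (hne : ⁅a, r ^ 2⁆ ≠ 1) : ⁅a, (P * r) ^ 2⁆ = ⁅a, r ^ 2⁆ := by
  set z := r ^ 2 with hzdef
  set c := ⁅a, z⁆ with hc
  have hrc : Commute r c := commute_root hM hEY hcen hsq hrY hrE hzE hr ha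
  have hcg : Commute c a := hcen a ha z hzE a ha
  have hc2 : c * c = 1 := hsq a ha z hzE
  have hcz : Commute c z := hcen a ha z hzE z hzE
  have hcP : Commute c P := hcen a ha z hzE P hP
  have hle := negPart_le hM hr (hEY (by
    rw [commutatorElement_def]
    exact mul_mem (mul_mem (mul_mem ha hzE) (inv_mem ha)) (inv_mem hzE))) hc2 hcg hcz hne
  have hrN : ∀ v ∈ negPart z, r v ∈ negPart z := fun v hv =>
    mem_negPart_of_commute (Commute.self_pow r 2) hv
  have hP2N : ∀ v ∈ negPart z, (P ^ 2) v ∈ negPart z := fun v hv =>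
    mem_negPart_of_commute (hP1.pow_left 2) hv
  rcases hr.rule (P ^ 2) (pow_mem (hEY hP) 2) hP2N (fun v _ => by
      rw [← MulAut.mul_apply, ← pow_add, hfour P hP, MulAut.one_apply]) with hk | hk
  · have h := sq_eq_of_plane hM hr hr' (fun h => hne (by rw [hc, hzdef, h, commutatorElement_one_right]))
      hP1 (hr.rule P (hEY hP) (fun v hv => mem_negPart_of_commute hP1 hv) (fun v hv => by
        rw [sq_apply_self]; exact hk v hv))
    rw [h]
  · -- the plane moves to its translate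
    have haP : Commute a (P ^ 2) := by
      have h1 : ⁅P ^ 2, a⁆ = 1 := by
        calc ⁅P ^ 2, a⁆ = P * ⁅P, a⁆ * P⁻¹ * ⁅P, a⁆ := by
              rw [pow_two]; simp only [commutatorElement_def]; group
          _ = 1 := by rw [← (hcen P hP a ha P hP).eq, mul_inv_cancel_right, hsq P hP a ha]
      exact (commutatorElement_eq_one_iff_mul_comm.1 h1).symm
    set L := (negPart z).map a.toMonoidHom with hL
    have hLmem : ∀ v, v ∈ L ↔ v ∈ negPart c ∧ z v = v := by
      intro v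
      constructor
      · rintro ⟨u, hu, rfl⟩
        obtain ⟨h1, -, h2, -⟩ := mem_negPart_swap hc2 hcg (hle hu)
        exact ⟨h1, h2 hu⟩
      · rintro ⟨h1, h2⟩
        exact ⟨a⁻¹ v, (mem_negPart_swap hc2 hcg h1).2.2.2.2 h2, MulAut.apply_inv_self _ a v⟩
    have hPL : ∀ v ∈ L, P v ∈ L := fun v hv =>
      (hLmem _).2 ⟨mem_negPart_of_commute hcP.symm ((hLmem v).1 hv).1, by
        rw [← commute_apply hP1, ((hLmem v).1 hv).2]⟩
    have hrL : ∀ v ∈ L, r v ∈ L := fun v hv =>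
      (hLmem _).2 ⟨mem_negPart_of_commute hrc ((hLmem v).1 hv).1, by
        rw [← commute_apply (Commute.self_pow r 2), ((hLmem v).1 hv).2]⟩
    have hLle : L ≤ negPart ((P * r) ^ 2) := by
      intro w hw
      show ((P * r) ^ 2) w = w⁻¹
      rw [← sq_apply_self, MulAut.mul_apply, MulAut.mul_apply]
      have hPP : P (P w) = w⁻¹ := by
        obtain ⟨u, hu, rfl⟩ := hw
        rw [sq_apply_self]
        show (P ^ 2) (a u) = (a u)⁻¹
        rw [← commute_apply haP, hk u hu, map_inv]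
      rcases exists_sign hM hr hrY (hEY ha) hc2 hcg hcz hrc hne with h | h
      · have h' : ∀ v ∈ L, r v = v := by rintro _ ⟨u, hu, rfl⟩; exact h u hu
        rw [h' w hw, h' _ (hPL w hw), hPP]
      · have h' : ∀ v ∈ L, r v = v⁻¹ := by rintro _ ⟨u, hu, rfl⟩; exact h u hu
        rw [h' w hw, map_inv, map_inv, h' _ (hPL w hw), inv_inv, hPP]
    rcases hr'.irr L hLle (fun v hv => hPL _ (hrL v hv)) with h | h
    · exact absurd ((map_eq_bot_iff_of_injective _ a.injective).1 h) (negPart_ne_bot hM hr hne)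
    · have hz1 : (a * z * a⁻¹) * (a * z * a⁻¹) = 1 := by
        rw [show a * z * a⁻¹ * (a * z * a⁻¹) = a * (z * z) * a⁻¹ by group, hr.sq, mul_one,
          mul_inv_cancel]
      have hneg : negPart (a * z * a⁻¹) = L := by
        refine le_antisymm ?_ ?_
        · intro v hv
          refine ⟨a⁻¹ v, ?_, MulAut.apply_inv_self _ a v⟩
          show z (a⁻¹ v) = (a⁻¹ v)⁻¹
          refine a.injective ?_
          rw [map_inv, MulAut.apply_inv_self]
          exact hv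
        · rintro _ ⟨u, hu, rfl⟩
          show a (z (a⁻¹ (a u))) = (a u)⁻¹
          rw [MulAut.inv_apply_self, mem_negPart.1 hu, map_inv]
      have hcomm : Commute (a * z * a⁻¹) ((P * r) ^ 2) := by
        rw [show a * z * a⁻¹ = c * z by rw [hc, commutatorElement_def]; group]
        exact Commute.mul_left ((hcP.mul_right hrc.symm).pow_right 2)
          ((hP1.symm.mul_right (Commute.self_pow r 2).symm).pow_right 2)
      have hz' := eq_of_negPart_eq hM hz1 hr'.sq hcomm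
        ((le_antisymm h hLle).trans hneg.symm)
      rw [hz', show a * z * a⁻¹ = c * z by rw [hc, commutatorElement_def]; group,
        show ⁅a, c * z⁆ = ⁅a, c⁆ * (c * ⁅a, z⁆ * c⁻¹) by simp only [commutatorElement_def]; group,
        commutatorElement_eq_one_iff_mul_comm.2 hcg.eq.symm, one_mul, ← hc, mul_inv_cancel_right]

/-- The product of the two squares is central. -/
theorem commutator_sq_eq (hr : PlaneTop Y r) {P : MulAut M} (hP : P ∈ E)
    (hr' : PlaneTop Y (P * r)) (hzE' : (P * r) ^ 2 ∈ E) {a : MulAut M} (ha : a ∈ E) :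
    ⁅a, (P * r) ^ 2⁆ = ⁅a, r ^ 2⁆ := by
  have h4 : ∀ {s : MulAut M}, PlaneTop Y s → s ^ 4 = 1 := fun {s} hs => by
    rw [show (4 : ℕ) = 2 + 2 from rfl, pow_add]; exact hs.sq
  have hP1 := commute_sq hM hEY hcen hsq hfour hrY hrE hzE hr hP (h4 hr')
  by_cases h1 : ⁅a, r ^ 2⁆ = 1
  · by_contra hne
    have hne' : ⁅a, (P * r) ^ 2⁆ ≠ 1 := fun h => hne (by rw [h, h1])
    have hrE' : ∀ b ∈ E, P * r * b * (P * r)⁻¹ ∈ E := fun b hb => by
      rw [show P * r * b * (P * r)⁻¹ = P * (r * b * r⁻¹) * P⁻¹ by group]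
      exact mul_mem (mul_mem hP (hrE b hb)) (inv_mem hP)
    have hrY' : P * r ∈ Y := mul_mem (hEY hP) hrY
    have hP2 := commute_sq hM hEY hcen hsq hfour hrY' hrE' hzE' hr' (inv_mem hP)
      (by rw [inv_mul_cancel_left]; exact h4 hr)
    have h := commutator_eq_of_ne hM hEY hcen hsq hfour hrY' hrE' hzE' hr' (inv_mem hP)
      (by rwa [inv_mul_cancel_left]) hP2 ha hne'
    rw [inv_mul_cancel_left] at h
    exact hne h.symm
  · exact commutator_eq_of_ne hM hEY hcen hsq hfour hrY hrE hzE hr hP hr' hP1 ha h1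

end ClassTwo

end CfsgLib.Solvable.TwoLengthExp
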