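import Cfsg.Agent.Lib.Solvable.TwoLengthExp.Blocks
import Cfsg.Agent.Lib.Solvable.TwoLength.Main

/-!
# The group generated by the tops

`R` is a two-subgroup containing the tops `x ^ 2 ^ (m + 1)` of the two-elements normalising it. The
tops generate a group of class two, a translate by it moves a top by a central involution, and a
translate by a central involution of it does not move the top.
-/

set_option autoImplicit false

namespace CfsgLib.Solvable.TwoLengthExp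

open Subgroup CfsgLib CfsgLib.Solvable.FPFOperators
open scoped commutatorElement

universe u v w

variable {H : Type u} [Group H]

/-- The group generated by the tops of the two-elements normalising `R`. -/
def topGroup (R : Subgroup H) (m : ℕ) : Subgroup H :=
  closure {y | ∃ x ∈ normalizer (R : Set H), IsPGroup 2 (zpowers x) ∧ x ^ 2 ^ (m + 1) = y}

/-- The involutions central in `E`, with the identity. -/
def omegaCenter (E : Subgroup H) : Subgroup H where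
  carrier := {b | b ∈ E ∧ b * b = 1 ∧ ∀ e ∈ E, Commute b e}
  one_mem' := ⟨one_mem E, mul_one 1, fun e _ => Commute.one_left e⟩
  mul_mem' := fun {a b} ha hb => ⟨mul_mem ha.1 hb.1, by
    rw [mul_assoc, ← mul_assoc b, (hb.2.2 a ha.1).eq, mul_assoc a, hb.2.1, mul_one, ha.2.1],
    fun e he => (ha.2.2 e he).mul_left (hb.2.2 e he)⟩
  inv_mem' := fun {a} ha => ⟨inv_mem ha.1, by rw [← mul_inv_rev, ha.2.1, inv_one],
    fun e he => (ha.2.2 e he).inv_left⟩

theorem top_mem_topGroup {R : Subgroup H} {m : ℕ} {x : H} (hx : x ∈ normalizer (R : Set H))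
    (h2 : IsPGroup 2 (zpowers x)) : x ^ 2 ^ (m + 1) ∈ topGroup R m :=
  subset_closure ⟨x, hx, h2, rfl⟩

theorem normalizer_le_topGroup (R : Subgroup H) (m : ℕ) :
    normalizer (R : Set H) ≤ normalizer (topGroup R m : Set H) := by
  refine le_normalizer_iff.2 fun g hg => ?_
  intro y hy
  have h : (topGroup R m).map (MulAut.conj g).toMonoidHom ≤ topGroup R m := by
    rw [topGroup, MonoidHom.map_closure, closure_le]
    rintro _ ⟨_, ⟨x, hx, h2, rfl⟩, rfl⟩
    refine subset_closure ⟨g * x * g⁻¹, mul_mem (mul_mem hg hx) (inv_mem hg), ?_, ?_⟩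
    · rw [← MulAut.conj_apply, ← MulEquiv.coe_toMonoidHom, ← MonoidHom.map_zpowers]
      exact h2.map _
    · rw [← MulAut.conj_apply, ← map_pow]
      rfl
  exact h ⟨y, hy, rfl⟩

theorem normalizer_le_omegaCenter (E : Subgroup H) :
    normalizer (E : Set H) ≤ normalizer (omegaCenter E : Set H) := by
  refine le_normalizer_iff.2 fun g hg b hb => ?_
  refine ⟨(mem_normalizer_iff.1 hg b).1 hb.1, ?_, fun e he => ?_⟩
  · rw [show g * b * g⁻¹ * (g * b * g⁻¹) = g * (b * b) * g⁻¹ by group, hb.2.1, mul_one,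
      mul_inv_cancel]
  · have h := hb.2.2 (g⁻¹ * e * g) (by
      have := (mem_normalizer_iff.1 (inv_mem hg) e).1 he
      rwa [inv_inv] at this)
    show g * b * g⁻¹ * e = e * (g * b * g⁻¹)
    calc g * b * g⁻¹ * e = g * (b * (g⁻¹ * e * g)) * g⁻¹ := by group
      _ = g * (g⁻¹ * e * g * b) * g⁻¹ := by rw [h.eq]
      _ = e * (g * b * g⁻¹) := by group

theorem exists_pow_mul {E : Subgroup H} {x : H} (hx : x ∈ normalizer (E : Set H)) {w : H}
    (hw : w ∈ E) : ∀ k : ℕ, ∃ P ∈ E, (w * x) ^ k = P * x ^ k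
  | 0 => ⟨1, one_mem E, by simp⟩
  | k + 1 => by
    obtain ⟨P, hP, he⟩ := exists_pow_mul hx hw k
    refine ⟨P * (x ^ k * w * (x ^ k)⁻¹),
      mul_mem hP ((mem_normalizer_iff.1 (pow_mem hx k) w).1 hw), ?_⟩
    rw [pow_succ, he, pow_succ]
    group

variable [Finite H]

theorem isPGroup_zpowers_mul {E : Subgroup H} (hE : IsPGroup 2 E) {x : H}
    (hx : x ∈ normalizer (E : Set H)) (hx2 : IsPGroup 2 (zpowers x)) {w : H} (hw : w ∈ E) :
    IsPGroup 2 (zpowers (w * x)) :=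
  (hE.to_sup_of_normal_left' hx2 (zpowers_le.2 hx)).to_le
    (zpowers_le.2 (mul_mem (mem_sup_left hw) (mem_sup_right (mem_zpowers x))))

variable {K : Type v} [Field K] [IsAlgClosed K] [CharP K 2] {W : Type w} [AddCommGroup W]
  [Module K W] [FiniteDimensional K W] (ρ : H →* Module.End K W) (hinj : Function.Injective ρ)
  {m : ℕ} (hnorm : ∀ x : H, IsPGroup 2 (zpowers x) → (ρ x - 1) ^ (2 ^ (m + 2) - 1) = 0)
  (hpow : ∀ x : H, IsPGroup 2 (zpowers x) → x ^ 2 ^ (m + 2) = 1)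
  {R : Subgroup H} (hR : IsPGroup 2 R)
  (htop : ∀ x ∈ normalizer (R : Set H), IsPGroup 2 (zpowers x) → x ^ 2 ^ (m + 1) ∈ R)

include htop in
theorem topGroup_le : topGroup R m ≤ R := by
  rw [topGroup, closure_le]
  rintro _ ⟨x, hx, h2, rfl⟩
  exact htop x hx h2

include hR htop in
theorem isPGroup_topGroup : IsPGroup 2 (topGroup R m) := hR.to_le (topGroup_le htop)

/-- The data of one block. -/
structure IsBlock (E : Subgroup H) (m : ℕ) {M : Type u} [CommGroup M] [Finite M] {St : Subgroup H}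
    (φ : St →* MulAut M) : Prop where
  odd : ∀ v : M, v * v = 1 → v = 1
  le : E ≤ St
  plane : ∀ x : H, IsPGroup 2 (zpowers x) → x ^ 2 ^ (m + 1) ∈ E →
    ∀ hr : x ^ 2 ^ m ∈ St, PlaneTop φ.range (φ ⟨_, hr⟩)
  triv : ∀ x : H, IsPGroup 2 (zpowers x) → x ^ 2 ^ (m + 1) ∈ E → x ^ 2 ^ m ∉ St →
    ∀ ha : x ^ 2 ^ (m + 1) ∈ St, φ ⟨_, ha⟩ = 1

variable [Group.IsSolvable H] (hcore : Cfsg.pCore 2 H = ⊥)

include hinj hnorm hpow hR htop hcore

/-- An element of the top group trivial on every block is trivial. -/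
theorem eq_one_of_blocks {c : H} (hc : c ∈ topGroup R m)
    (h : ∀ (M : Type u) [CommGroup M] [Finite M] (St : Subgroup H) (φ : St →* MulAut M),
      IsBlock (topGroup R m) m φ → ∀ hc : c ∈ St, φ ⟨c, hc⟩ = 1) : c = 1 := by
  classical
  haveI : Fact (Nat.Prime 2) := ⟨Nat.prime_two⟩
  obtain ⟨k, hk⟩ := (isPGroup_topGroup hR htop) ⟨c, hc⟩
  have hck : c ^ 2 ^ k = 1 := congrArg Subtype.val hk
  refine TwoLength.eq_one_of_centralizes_cores hcore hck fun q hq hq2 => ?_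
  haveI := Fact.mk hq
  set O := Cfsg.pCore q H with hO
  haveI : O.Normal := Cores.pCore_normal q
  obtain ⟨C₀, hchar, hC2, hcrit⟩ := PGroup.CoprimeFix.exists_critical (Cores.isPGroup_pCore (G := H) q)
  haveI := hchar
  set C := C₀.map O.subtype with hCdef
  haveI hCn : C.Normal := ConjAct.normal_of_characteristic_of_normal
  set Z := C ⊓ centralizer (C : Set H) with hZdef
  haveI : Z.Normal := inferInstance
  haveI : Fintype Z := Fintype.ofFinite Z
  have hCp : IsPGroup q C := ((Cores.isPGroup_pCore q).to_subgroup C₀).map O.subtype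
  have hqK : (q : K) ≠ 0 := fun h0 =>
    hq2 ((Nat.prime_dvd_prime_iff_eq Nat.prime_two hq).1 ((CharP.cast_eq_zero_iff K 2 _).1 h0)).symm
  have hZc : ∀ z ∈ Z, ∀ y ∈ C, y * z = z * y := fun z hz y hy => mem_centralizer_iff.1 hz.2 y hy
  have hcomm : ∀ x ∈ C, ∀ y ∈ C, ⁅x, y⁆ ∈ Z := by
    intro x hx y hy
    refine ⟨(commutator_le_right C C) (commutator_mem_commutator hx hy),
      mem_centralizer_iff.2 fun w hw => ?_⟩
    obtain ⟨x', hx', rfl⟩ := hx
    obtain ⟨y', hy', rfl⟩ := hy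
    obtain ⟨w', hw', rfl⟩ := hw
    rw [← map_commutatorElement, ← map_mul, ← map_mul, (hC2.comm x' hx' y' hy' w' hw').eq]
  have hZcomm : IsMulCommutative Z :=
    isMulCommutative_iff.2 fun x o => Subtype.ext (hZc o o.2 x x.2.1)
  have hZodd : Odd (Nat.card Z) := by
    obtain ⟨i, hi⟩ := IsPGroup.iff_card.1 (hCp.to_le (inf_le_left : Z ≤ C))
    rw [hi]; exact (hq.odd_of_ne_two hq2).pow
  have hEZ : ∀ a ∈ topGroup R m, ∀ z ∈ Z, Commute a z := by
    intro a ha z hz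
    induction ha using closure_induction with
    | mem y hy =>
      obtain ⟨x, -, h2, rfl⟩ := hy
      exact TwoLength.commute_abelian ρ hinj (n := m + 1) (hpow x h2) (hnorm x h2) hZodd
        (by rw [normalizer_eq_top]; trivial) (fun a ha b hb => hZc b hb a ha.1) hz
    | one => exact Commute.one_left z
    | mul a b _ _ ha hb => exact ha.mul_left hb
    | inv a _ ha => exact ha.inv_left
  have hblock : ∀ l : Z →* Kˣ, ∀ y ∈ C, ∀ x ∈ C,
      ρ (⁅c, y⁆ * x) * weightIdem Z ρ l = ρ (x * ⁅c, y⁆) * weightIdem Z ρ l := by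
    intro l
    obtain ⟨M, _, _, φ, hM, hfaith, hs⟩ :=
      exists_block hq2 ρ C Z hCp inf_le_left hZc hcomm m l
    have hle : topGroup R m ≤ MulAction.stabilizer H l := fun a ha =>
      MulAction.mem_stabilizer_iff.2 (dual_smul_eq_self_of_commute l fun z hz => (hEZ a ha z hz).eq)
    refine hfaith ⟨c, hle hc⟩ (h M _ φ ⟨hM, hle, fun x h2 hxE => ?_, fun x h2 hxE => ?_⟩ _)
    · exact (hs x (hpow x h2) (hnorm x h2) fun z hz => (hEZ _ hxE z hz).eq).1
    · exact (hs x (hpow x h2) (hnorm x h2) fun z hz => (hEZ _ hxE z hz).eq).2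
  have hZK : (Fintype.card Z : K) ≠ 0 := by
    rw [← Nat.card_eq_fintype_card]; exact natCard_cast_ne_zero (hCp.to_le inf_le_left) hqK
  have hmain : ∀ o ∈ C, c * o = o * c := by
    intro o ho
    have hoC : ⁅c, o⁆ ∈ C := commutator_mem_of_normal hCn _ ho
    have hmem : ⁅c, o⁆ ∈ Z := by
      refine ⟨hoC, mem_centralizer_iff.2 fun x hx => hinj ?_⟩
      exact eq_of_forall_mul_weightIdem ρ hZcomm hZK fun l _ => (hblock l o ho x hx).symm
    rw [← commutatorElement_eq_one_iff_mul_comm]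
    refine eq_one_of_commute_commutator (p := 2 ^ k) hck (hEZ c hc _ hmem).eq ?_
    obtain ⟨b, hb⟩ := hCp ⟨_, hoC⟩
    exact (((Nat.coprime_primes hq Nat.prime_two).2 hq2).pow b k).coprime_dvd_left
      (orderOf_dvd_of_pow_eq_one (congrArg Subtype.val hb))
  have hcO : c ∈ normalizer (O : Set H) := by rw [normalizer_eq_top]; trivial
  set f := O.normalizerMonoidHom ⟨c, hcO⟩ with hf
  have hford : (orderOf f).Coprime q :=
    (((Nat.coprime_primes Nat.prime_two hq).2 hq2.symm).pow_left k).coprime_dvd_left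
      ((orderOf_map_dvd _ _).trans (orderOf_dvd_of_pow_eq_one (Subtype.ext hck)))
  have hf1 : f = 1 := hcrit f hford fun x hx => Subtype.ext (by
    show c * (x : H) * c⁻¹ = x
    rw [mul_inv_eq_iff_eq_mul]
    exact hmain _ (mem_map_of_mem O.subtype hx))
  refine mem_centralizer_iff.2 fun y hy => ?_
  have h' : c * y * c⁻¹ = y := congrArg Subtype.val (DFunLike.congr_fun hf1 (⟨y, hy⟩ : O))
  exact (mul_inv_eq_iff_eq_mul.1 h').symm

/-- The tops centralise the abelian subgroups of the top group normalised by them. -/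
theorem commute_top_of_abelian {A : Subgroup H} (hAE : A ≤ topGroup R m)
    (hAn : normalizer (R : Set H) ≤ normalizer (A : Set H))
    (hAc : ∀ a ∈ A, ∀ b ∈ A, Commute a b) {x : H} (hx : x ∈ normalizer (R : Set H))
    (hx2 : IsPGroup 2 (zpowers x)) {a : H} (ha : a ∈ A) : Commute a (x ^ 2 ^ (m + 1)) := by
  set z := x ^ 2 ^ (m + 1) with hzdef
  set r := x ^ 2 ^ m with hrdef
  have hrz : r * r = z := by rw [hrdef, hzdef, ← pow_add, pow_succ, mul_two]
  have hz2 : z * z = 1 := by rw [hzdef, ← pow_add, ← two_mul, ← pow_succ', hpow x hx2]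
  have hzN : z ∈ normalizer (A : Set H) := hAn (pow_mem hx _)
  have hrN : r ∈ normalizer (A : Set H) := hAn (pow_mem hx _)
  have hD : ∀ b ∈ A, ⁅b, z⁆ ∈ A := fun b hb => by
    rw [show ⁅b, z⁆ = b * (z * b⁻¹ * z⁻¹) by rw [commutatorElement_def]; group]
    exact mul_mem hb ((mem_normalizer_iff.1 hzN _).1 (inv_mem hb))
  have hmul : ∀ b ∈ A, ∀ b' ∈ A, ⁅b * b', z⁆ = ⁅b, z⁆ * ⁅b', z⁆ := fun b hb b' hb' => by
    rw [show ⁅b * b', z⁆ = b * ⁅b', z⁆ * b⁻¹ * ⁅b, z⁆ by simp only [commutatorElement_def]; group,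
      (hAc b hb _ (hD b' hb')).eq, mul_inv_cancel_right, (hAc _ (hD b' hb') _ (hD b hb)).eq]
  have hpowD : ∀ (b : H), b ∈ A → ∀ i : ℕ, ⁅b ^ i, z⁆ = ⁅b, z⁆ ^ i := fun b hb i => by
    induction i with
    | zero => rw [pow_zero, pow_zero, commutatorElement_one_left]
    | succ i ih => rw [pow_succ, hmul _ (pow_mem hb i) b hb, ih, pow_succ]
  have hconjD : ∀ b : H, ⁅r * b * r⁻¹, z⁆ = r * ⁅b, z⁆ * r⁻¹ := fun b => by
    rw [← hrz]; simp only [commutatorElement_def]; group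
  -- only fixed involutions matter
  suffices hkey : ∀ b ∈ A, ⁅b, z⁆ * ⁅b, z⁆ = 1 → Commute r ⁅b, z⁆ → ⁅b, z⁆ = 1 by
    have hsq : ∀ b ∈ A, ⁅b, z⁆ * ⁅b, z⁆ = 1 → ⁅b, z⁆ = 1 := by
      intro b hb hb2
      have hb' : r * b * r⁻¹ ∈ A := (mem_normalizer_iff.1 hrN b).1 hb
      have hcc : Commute ⁅b, z⁆ (r * ⁅b, z⁆ * r⁻¹) :=
        hAc _ (hD b hb) _ ((mem_normalizer_iff.1 hrN _).1 (hD b hb))
      have hzc : z * ⁅b, z⁆ * z⁻¹ = ⁅b, z⁆ := by
        have e : z * ⁅b, z⁆ * z⁻¹ = ⁅b, z⁆⁻¹ := by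
          rw [commutatorElement_def, inv_eq_of_mul_eq_one_right hz2]
          simp only [mul_inv_rev, inv_inv]
          rw [inv_eq_of_mul_eq_one_right hz2]
          simp only [mul_assoc, hz2, mul_one]
        rw [e]
        exact inv_eq_of_mul_eq_one_right hb2
      have h := hkey _ (mul_mem hb hb') (by
        rw [hmul b hb _ hb', hconjD, hcc.symm.mul_mul_mul_comm, hb2, one_mul,
          show r * ⁅b, z⁆ * r⁻¹ * (r * ⁅b, z⁆ * r⁻¹) = r * (⁅b, z⁆ * ⁅b, z⁆) * r⁻¹ by group, hb2,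
          mul_one, mul_inv_cancel]) (by
        rw [hmul b hb _ hb', hconjD]
        refine mul_inv_eq_iff_eq_mul.1 ?_
        calc r * (⁅b, z⁆ * (r * ⁅b, z⁆ * r⁻¹)) * r⁻¹
            = r * ⁅b, z⁆ * r⁻¹ * ((r * r) * ⁅b, z⁆ * (r * r)⁻¹) := by group
          _ = ⁅b, z⁆ * (r * ⁅b, z⁆ * r⁻¹) := by rw [hrz, hzc, hcc.eq])
      rw [hmul b hb _ hb', hconjD] at h
      refine hkey b hb hb2 ?_
      have h1 : r * ⁅b, z⁆ * r⁻¹ = ⁅b, z⁆ := by
        rw [eq_inv_of_mul_eq_one_right h]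
        exact inv_eq_of_mul_eq_one_right hb2
      exact mul_inv_eq_iff_eq_mul.1 h1
    obtain ⟨k, hk⟩ := (hR.to_le (hAE.trans (topGroup_le htop))) ⟨⁅a, z⁆, hD a ha⟩
    have hk' : ⁅a, z⁆ ^ 2 ^ k = 1 := congrArg Subtype.val hk
    refine commutatorElement_eq_one_iff_mul_comm.1 ?_
    clear hk
    induction k with
    | zero => rwa [pow_zero, pow_one] at hk'
    | succ k ih =>
      refine ih ?_
      rw [← hpowD a ha]
      refine hsq _ (pow_mem ha _) ?_
      rw [hpowD a ha, ← pow_add, ← two_mul, ← pow_succ']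
      exact hk'
  intro b hb hb2 hrc
  refine eq_one_of_blocks ρ hinj hnorm hpow hR htop hcore (hAE (hD b hb))
    fun M _ _ St φ hφ hcSt => ?_
  have hzE : z ∈ topGroup R m := top_mem_topGroup hx hx2
  by_cases hrSt : r ∈ St
  swap
  · rw [show (⟨⁅b, z⁆, hcSt⟩ : St) = ⁅(⟨b, hφ.le (hAE hb)⟩ : St), ⟨z, hφ.le hzE⟩⁆ from Subtype.ext rfl,
      map_commutatorElement, hφ.triv x hx2 hzE hrSt, commutatorElement_one_right]
  by_contra hne
  set g := φ ⟨b, hφ.le (hAE hb)⟩ with hg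
  set r' := φ ⟨r, hrSt⟩ with hr'
  have hr2 : r' ^ 2 = φ ⟨z, hφ.le hzE⟩ := by
    rw [hr', ← map_pow]
    exact congrArg φ (Subtype.ext ((pow_two r).trans hrz))
  have hcb : φ ⟨⁅b, z⁆, hcSt⟩ = ⁅g, r' ^ 2⁆ := by
    rw [hr2, hg, ← map_commutatorElement]; rfl
  have hcom : ∀ {s t : H} (hs : s ∈ St) (ht : t ∈ St), Commute s t →
      Commute (φ ⟨s, hs⟩) (φ ⟨t, ht⟩) := fun hs ht h =>
    (show Commute (⟨_, hs⟩ : St) ⟨_, ht⟩ from Subtype.ext h.eq).map φ
  have hcz : Commute ⁅b, z⁆ z := by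
    have e : z * ⁅b, z⁆ * z⁻¹ = ⁅b, z⁆⁻¹ := by
      rw [commutatorElement_def, inv_eq_of_mul_eq_one_right hz2]
      simp only [mul_inv_rev, inv_inv]
      rw [inv_eq_of_mul_eq_one_right hz2]
      simp only [mul_assoc, hz2, mul_one]
    rw [inv_eq_of_mul_eq_one_right hb2] at e
    exact (mul_inv_eq_iff_eq_mul.1 e).symm
  refine false_of_commute_conj hφ.odd (hφ.plane x hx2 hzE hrSt) ⟨_, rfl⟩ (g := g) ⟨_, rfl⟩ ?_ ?_ ?_ ?_
    (hcb ▸ hne) ?_
  · rw [← hcb, ← map_mul]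
    exact (congrArg φ (Subtype.ext hb2 : (⟨⁅b, z⁆, hcSt⟩ : St) * ⟨⁅b, z⁆, hcSt⟩ = 1)).trans (map_one φ)
  · rw [← hcb]; exact hcom _ _ (hAc _ (hD b hb) b hb)
  · rw [← hcb, hr2]; exact hcom _ _ hcz
  · rw [← hcb]; exact hcom _ _ hrc
  · rw [hg, ← map_inv, ← map_mul, ← map_mul]
    exact (show Commute (⟨b, _⟩ : St) (⟨r, hrSt⟩ * ⟨b, _⟩ * (⟨r, hrSt⟩ : St)⁻¹) from
      Subtype.ext (hAc b hb _ ((mem_normalizer_iff.1 hrN b).1 hb)).eq).map φ

/-- The top group has class two and exponent four. -/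
theorem topGroup_structure :
    (∀ a ∈ topGroup R m, ∀ b ∈ topGroup R m, ∀ e ∈ topGroup R m, Commute ⁅a, b⁆ e) ∧
    (∀ a ∈ topGroup R m, ∀ b ∈ topGroup R m, ⁅a, b⁆ * ⁅a, b⁆ = 1) ∧
    ∀ a ∈ topGroup R m, a ^ 4 = 1 := by
  haveI : Fact (Nat.Prime 2) := ⟨Nat.prime_two⟩
  set E := topGroup R m with hE
  haveI : Group.IsNilpotent E := (isPGroup_topGroup hR htop).isNilpotent
  have h2 := TwoLength.commutator_le_center_of_charAbelian (D := E) fun A hA hAc => by
    haveI := hA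
    intro a ha
    refine mem_center_iff.2 fun r => Subtype.ext ?_
    obtain ⟨r, hr⟩ := r
    show r * (a : H) = a * r
    induction hr using closure_induction with
    | mem y hy =>
      obtain ⟨x, hx, hx2, rfl⟩ := hy
      exact (commute_top_of_abelian ρ hinj hnorm hpow hR htop hcore (A := A.map E.subtype)
        (map_subtype_le A) ((normalizer_le_topGroup R m).trans
          (TwoLength.mem_normalizer_map_of_char A))
        (by rintro _ ⟨a, ha, rfl⟩ _ ⟨b, hb, rfl⟩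
            exact (show Commute a b from hAc a ha b hb).map E.subtype)
        hx hx2 (mem_map_of_mem E.subtype ha)).eq.symm
    | one => rw [one_mul, mul_one]
    | mul s t _ _ hs ht => exact ((show Commute s (a : H) from hs).mul_left ht).eq
    | inv s _ hs => exact (show Commute s (a : H) from hs).inv_left.eq
  have hcen : ∀ a ∈ E, ∀ b ∈ E, ∀ e ∈ E, Commute ⁅a, b⁆ e := fun a ha b hb e he =>
    (congrArg Subtype.val (mem_center_iff.1
      (h2 (commutator_mem_commutator (mem_top (⟨a, ha⟩ : E)) (mem_top (⟨b, hb⟩ : E)))) ⟨e, he⟩)).symm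
  have hl : ∀ a ∈ E, ∀ b ∈ E, ∀ b' ∈ E, ⁅a, b * b'⁆ = ⁅a, b⁆ * ⁅a, b'⁆ := fun a ha b hb b' hb' => by
    rw [show ⁅a, b * b'⁆ = ⁅a, b⁆ * (b * ⁅a, b'⁆ * b⁻¹) by simp only [commutatorElement_def]; group,
      ← (hcen a ha b' hb' b hb).eq, mul_inv_cancel_right]
  have hcE : ∀ a ∈ E, ∀ b ∈ E, ⁅a, b⁆ ∈ E := fun a ha b hb => by
    rw [commutatorElement_def]
    exact mul_mem (mul_mem (mul_mem ha hb) (inv_mem ha)) (inv_mem hb)
  have hsq : ∀ a ∈ E, ∀ b ∈ E, ⁅a, b⁆ * ⁅a, b⁆ = 1 := by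
    intro a ha b hb
    induction hb using closure_induction with
    | mem y hy =>
      have hyE : y ∈ E := subset_closure hy
      obtain ⟨x, hx, hx2, rfl⟩ := hy
      rw [← hl a ha _ hyE _ hyE, ← pow_add, ← two_mul, ← pow_succ', hpow x hx2,
        commutatorElement_one_right]
    | one => rw [commutatorElement_one_right, one_mul]
    | mul s t hs ht ihs iht =>
      rw [hl a ha s hs t ht, (hcen a ha t ht _ (hcE a ha s hs)).mul_mul_mul_comm, ihs, iht,
        one_mul]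
    | inv s hs ihs =>
      have h : ⁅a, s⁻¹⁆ = ⁅a, s⁆⁻¹ := by
        refine eq_inv_of_mul_eq_one_left ?_
        rw [← hl a ha _ (inv_mem hs) s hs, inv_mul_cancel, commutatorElement_one_right]
      rw [h, ← mul_inv_rev, ihs, inv_one]
  refine ⟨hcen, hsq, fun a ha => ?_⟩
  have hsqc : ∀ a ∈ E, ∀ e ∈ E, Commute (a * a) e := fun a ha e he => by
    refine (commutatorElement_eq_one_iff_mul_comm.1 ?_ : e * (a * a) = a * a * e).symm
    rw [hl e he a ha a ha, hsq e he a ha]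
  induction ha using closure_induction with
  | mem y hy =>
    obtain ⟨x, hx, hx2, rfl⟩ := hy
    rw [show (4 : ℕ) = 2 * 2 from rfl, pow_mul, ← pow_mul x, ← pow_succ, hpow x hx2, one_pow]
  | one => rw [one_pow]
  | mul s t hs ht ihs iht =>
    set d := ⁅t⁻¹, s⁻¹⁆ with hd
    have hdc : ∀ e ∈ E, Commute d e := fun e he => hcen _ (inv_mem ht) _ (inv_mem hs) e he
    have hdE : d ∈ E := hcE _ (inv_mem ht) _ (inv_mem hs)
    have h1 : s * t * (s * t) = (s * s) * (t * t) * d := by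
      rw [mul_assoc (s * s), mul_assoc t t, ← (hdc t ht).eq, hd, commutatorElement_def]
      group
    have h4 : ∀ u : H, u ^ 4 = u * u * (u * u) := fun u => by
      rw [show (4 : ℕ) = 2 + 2 from rfl, pow_add, pow_two]
    have hc1 : Commute (s * s * (t * t)) d := (hdc _ (mul_mem (mul_mem hs hs) (mul_mem ht ht))).symm
    rw [h4, h1, hc1.symm.mul_mul_mul_comm,
      (hsqc s hs _ (mul_mem ht ht)).symm.mul_mul_mul_comm, ← h4, ← h4, ihs, iht, one_mul, one_mul,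
      hd, hsq _ (inv_mem ht) _ (inv_mem hs)]
  | inv s hs ihs => rw [inv_pow, ihs, inv_one]

/-- A translate by the top group moves a top by a central involution. -/
theorem top_mul_mem_omegaCenter {x : H} (hx : x ∈ normalizer (R : Set H))
    (hx2 : IsPGroup 2 (zpowers x)) {w : H} (hw : w ∈ topGroup R m) :
    (w * x) ^ 2 ^ (m + 1) * (x ^ 2 ^ (m + 1))⁻¹ ∈ omegaCenter (topGroup R m) := by
  set E := topGroup R m with hE
  obtain ⟨hcen, hsq, hfour⟩ := topGroup_structure ρ hinj hnorm hpow hR htop hcore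
  have hxE := normalizer_le_topGroup R m hx
  have hy2 := isPGroup_zpowers_mul (isPGroup_topGroup hR htop) hxE hx2 hw
  have hyX : w * x ∈ normalizer (R : Set H) :=
    mul_mem (le_normalizer (topGroup_le htop hw)) hx
  set z := x ^ 2 ^ (m + 1) with hz
  set z' := (w * x) ^ 2 ^ (m + 1) with hz'
  have hzE : z ∈ E := top_mem_topGroup hx hx2
  have hzE' : z' ∈ E := top_mem_topGroup hyX hy2
  have hzz : z * z = 1 := by rw [hz, ← pow_add, ← two_mul, ← pow_succ', hpow x hx2]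
  have hzz' : z' * z' = 1 := by rw [hz', ← pow_add, ← two_mul, ← pow_succ', hpow _ hy2]
  have hbE : z' * z⁻¹ ∈ E := mul_mem hzE' (inv_mem hzE)
  obtain ⟨P, hP, hPe⟩ := exists_pow_mul hxE hw (2 ^ m)
  have hcom : ∀ e ∈ E, Commute (z' * z⁻¹) e := by
    intro e he
    have hceE : ⁅e, z' * z⁻¹⁆ ∈ E := by
      rw [commutatorElement_def]
      exact mul_mem (mul_mem (mul_mem he hbE) (inv_mem he)) (inv_mem hbE)
    refine (commutatorElement_eq_one_iff_mul_comm.1 ?_ : e * (z' * z⁻¹) = z' * z⁻¹ * e).symm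
    refine eq_one_of_blocks ρ hinj hnorm hpow hR htop hcore hceE fun M _ _ St φ hφ hc => ?_
    have e1 : ⁅e, z' * z⁻¹⁆ = ⁅e, z'⁆ * ⁅e, z⁆ := by
      rw [show z⁻¹ = z from inv_eq_of_mul_eq_one_right hzz,
        show ⁅e, z' * z⁆ = ⁅e, z'⁆ * (z' * ⁅e, z⁆ * z'⁻¹) by simp only [commutatorElement_def]; group,
        ← (hcen e he z hzE z' hzE').eq, mul_inv_cancel_right]
    rw [show (⟨⁅e, z' * z⁻¹⁆, hc⟩ : St) = ⁅(⟨e, hφ.le he⟩ : St), ⟨z', hφ.le hzE'⟩⁆ *
      ⁅(⟨e, hφ.le he⟩ : St), ⟨z, hφ.le hzE⟩⁆ from Subtype.ext e1, map_mul, map_commutatorElement,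
      map_commutatorElement]
    by_cases hrSt : x ^ 2 ^ m ∈ St
    swap
    · rw [hφ.triv x hx2 hzE hrSt, hφ.triv _ hy2 hzE' (fun h => hrSt (by
          rw [hPe] at h
          exact (mul_mem_cancel_left (hφ.le hP)).1 h)), commutatorElement_one_right, mul_one]
    have hrSt' : (w * x) ^ 2 ^ m ∈ St := by rw [hPe]; exact mul_mem (hφ.le hP) hrSt
    set E' := (E.subgroupOf St).map φ with hE'
    have hm : ∀ {s : St}, (s : H) ∈ E → φ s ∈ E' := fun h => mem_map_of_mem φ h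
    have hr : φ ⟨_, hrSt⟩ ^ 2 = φ ⟨z, hφ.le hzE⟩ := by
      rw [← map_pow]; exact congrArg φ (Subtype.ext (by
        show (x ^ 2 ^ m) ^ 2 = z
        rw [hz, ← pow_mul, ← pow_succ]))
    have hPr : φ ⟨P, hφ.le hP⟩ * φ ⟨_, hrSt⟩ = φ ⟨_, hrSt'⟩ := by
      rw [← map_mul]; exact congrArg φ (Subtype.ext hPe.symm)
    have hr' : φ ⟨_, hrSt'⟩ ^ 2 = φ ⟨z', hφ.le hzE'⟩ := by
      rw [← map_pow]; exact congrArg φ (Subtype.ext (by
        show ((w * x) ^ 2 ^ m) ^ 2 = z'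
        rw [hz', ← pow_mul, ← pow_succ]))
    have h := commutator_sq_eq hφ.odd (E := E') (Y := φ.range) (by
        rintro _ ⟨s, -, rfl⟩; exact ⟨s, rfl⟩)
      (by rintro _ ⟨a, ha, rfl⟩ _ ⟨b, hb, rfl⟩ _ ⟨d, hd, rfl⟩
          rw [← map_commutatorElement]
          exact (show Commute ⁅a, b⁆ d from Subtype.ext (hcen _ ha _ hb _ hd).eq).map φ)
      (by rintro _ ⟨a, ha, rfl⟩ _ ⟨b, hb, rfl⟩
          rw [← map_commutatorElement, ← map_mul]
          exact (congrArg φ (Subtype.ext (hsq _ ha _ hb) : ⁅a, b⁆ * ⁅a, b⁆ = 1)).trans (map_one φ))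
      (by rintro _ ⟨a, ha, rfl⟩
          rw [← map_pow]
          exact (congrArg φ (Subtype.ext (hfour _ ha) : a ^ 4 = 1)).trans (map_one φ))
      (r := φ ⟨_, hrSt⟩) ⟨_, rfl⟩
      (by rintro _ ⟨a, ha, rfl⟩
          rw [← map_inv, ← map_mul, ← map_mul]
          exact hm ((mem_normalizer_iff.1 (pow_mem hxE _) (a : H)).1 ha))
      (by rw [hr]; exact hm hzE) (hφ.plane x hx2 hzE hrSt) (P := φ ⟨P, hφ.le hP⟩) (hm hP)
      (by rw [hPr]; exact hφ.plane _ hy2 hzE' hrSt') (by rw [hPr, hr']; exact hm hzE')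
      (a := φ ⟨e, hφ.le he⟩) (hm he)
    rw [hPr, hr', hr] at h
    rw [h, ← map_commutatorElement, ← map_mul]
    exact (congrArg φ (Subtype.ext (hsq _ he _ hzE) :
      ⁅(⟨e, hφ.le he⟩ : St), (⟨z, hφ.le hzE⟩ : St)⁆ * ⁅(⟨e, hφ.le he⟩ : St), (⟨z, hφ.le hzE⟩ : St)⁆ =
        (1 : St))).trans
      (map_one φ)
  refine ⟨hbE, ?_, hcom⟩
  calc z' * z⁻¹ * (z' * z⁻¹) = z' * z⁻¹ * z * (z' * z⁻¹) * z⁻¹ := by
        rw [mul_assoc (z' * z⁻¹) z, ← (hcom z hzE).eq, ← mul_assoc]; group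
    _ = z' * z' * (z⁻¹ * z⁻¹) := by group
    _ = 1 := by rw [hzz', ← mul_inv_rev, hzz, inv_one, mul_one]

/-- A translate by a central involution of the top group does not move the top. -/
theorem top_mul_eq {x : H} (hx : x ∈ normalizer (R : Set H)) (hx2 : IsPGroup 2 (zpowers x)) {w : H}
    (hw : w ∈ omegaCenter (topGroup R m)) : (w * x) ^ 2 ^ (m + 1) = x ^ 2 ^ (m + 1) := by
  set E := topGroup R m with hE
  have hxE := normalizer_le_topGroup R m hx
  have hy2 := isPGroup_zpowers_mul (isPGroup_topGroup hR htop) hxE hx2 hw.1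
  have hyX : w * x ∈ normalizer (R : Set H) :=
    mul_mem (le_normalizer (topGroup_le htop hw.1)) hx
  set z := x ^ 2 ^ (m + 1) with hz
  set z' := (w * x) ^ 2 ^ (m + 1) with hz'
  have hzE : z ∈ E := top_mem_topGroup hx hx2
  have hzE' : z' ∈ E := top_mem_topGroup hyX hy2
  obtain ⟨P, hP, hPe⟩ := exists_pow_mul (normalizer_le_omegaCenter E hxE) hw (2 ^ m)
  refine mul_inv_eq_one.1 (eq_one_of_blocks ρ hinj hnorm hpow hR htop hcore
    (mul_mem hzE' (inv_mem hzE)) fun M _ _ St φ hφ hc => ?_)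
  rw [show (⟨z' * z⁻¹, hc⟩ : St) = ⟨z', hφ.le hzE'⟩ * (⟨z, hφ.le hzE⟩ : St)⁻¹ from Subtype.ext rfl,
    map_mul, map_inv]
  by_cases hrSt : x ^ 2 ^ m ∈ St
  swap
  · rw [hφ.triv x hx2 hzE hrSt, hφ.triv _ hy2 hzE' (fun h => hrSt (by
        rw [hPe] at h
        exact (mul_mem_cancel_left (hφ.le hP.1)).1 h)), inv_one, mul_one]
  have hrSt' : (w * x) ^ 2 ^ m ∈ St := by rw [hPe]; exact mul_mem (hφ.le hP.1) hrSt
  have hr : φ ⟨_, hrSt⟩ ^ 2 = φ ⟨z, hφ.le hzE⟩ := by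
    rw [← map_pow]; exact congrArg φ (Subtype.ext (by
      show (x ^ 2 ^ m) ^ 2 = z
      rw [hz, ← pow_mul, ← pow_succ]))
  have hPr : φ ⟨P, hφ.le hP.1⟩ * φ ⟨_, hrSt⟩ = φ ⟨_, hrSt'⟩ := by
    rw [← map_mul]; exact congrArg φ (Subtype.ext hPe.symm)
  have hr' : φ ⟨_, hrSt'⟩ ^ 2 = φ ⟨z', hφ.le hzE'⟩ := by
    rw [← map_pow]; exact congrArg φ (Subtype.ext (by
      show ((w * x) ^ 2 ^ m) ^ 2 = z'
      rw [hz', ← pow_mul, ← pow_succ]))
  have hcm : ∀ {t : H} (ht : t ∈ E), Commute (φ ⟨P, hφ.le hP.1⟩) (φ ⟨t, hφ.le ht⟩) := fun ht =>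
    (show Commute (⟨P, _⟩ : St) ⟨_, _⟩ from Subtype.ext (hP.2.2 _ ht).eq).map φ
  have h := sq_eq_of_involution hφ.odd (hφ.plane x hx2 hzE hrSt) (P := φ ⟨P, hφ.le hP.1⟩) ⟨_, rfl⟩
    (by rw [hPr]; exact hφ.plane _ hy2 hzE' hrSt')
    (by rw [← map_mul]; exact (congrArg φ (Subtype.ext hP.2.1 :
          (⟨P, hφ.le hP.1⟩ : St) * ⟨P, hφ.le hP.1⟩ = 1)).trans (map_one φ))
    (by rw [hr]; exact hcm hzE) (by rw [hPr, hr']; exact hcm hzE')
  rw [hPr, hr', hr] at h
  rw [h, mul_inv_cancel]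

end CfsgLib.Solvable.TwoLengthExp
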